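import Mathlib
import Cfsg.Agent.Lib.Helper14.D4CheckA
import Cfsg.Agent.Lib.Helper14.D4CheckB
import Cfsg.Agent.Lib.Helper14.D4CheckC
import Cfsg.Agent.Lib.Helper14.D4CheckD
import Cfsg.Agent.Lib.Helper14.D4Gen
import Cfsg.Agent.S1054

/-! `D₄(F) ≃* PΩ₈⁺(F)` for every field. -/

set_option autoImplicit false

namespace Cfsg.Agent.Lib.Helper14

open Matrix Cfsg Cfsg.Lie Cfsg.Agent.Lib.Helper44 QuadraticMap

variable {F : Type*} [Field F]

local notation "I8" => (Fin 4 ⊕ Fin 4)
local notation "M8" => Matrix (Fin 4 ⊕ Fin 4) (Fin 4 ⊕ Fin 4) F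
local notation "V8" => (Fin 4 ⊕ Fin 4 → F)
local notation "V28" => (Fin 4 ⊕ Fin 24 → F)
local notation "Q8" => plusQF 4 F
local notation "O8" => OQ (plusQF 4 F)

def paD : Fin 24 → I8 := ![Sum.inr 0, Sum.inr 0, Sum.inl 3, Sum.inr 0, Sum.inl 2, Sum.inl 1, Sum.inr 1, Sum.inl 3, Sum.inr 1, Sum.inl 2, Sum.inl 3, Sum.inr 2, Sum.inl 2, Sum.inl 2, Sum.inl 1, Sum.inl 1, Sum.inl 1, Sum.inl 1, Sum.inl 0, Sum.inl 0, Sum.inl 0, Sum.inl 0, Sum.inl 0, Sum.inl 0]
def pbD : Fin 24 → I8 := ![Sum.inr 1, Sum.inr 2, Sum.inr 0, Sum.inr 3, Sum.inr 0, Sum.inr 0, Sum.inr 2, Sum.inr 1, Sum.inr 3, Sum.inr 1, Sum.inr 2, Sum.inr 3, Sum.inl 3, Sum.inr 3, Sum.inr 2, Sum.inl 3, Sum.inr 3, Sum.inl 2, Sum.inr 1, Sum.inr 2, Sum.inl 3, Sum.inr 3, Sum.inl 2, Sum.inl 1]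
def etD : Fin 24 → ℤ := ![1, 1, 1, -1, 1, -1, 1, 1, -1, 1, -1, 1, -1, -1, 1, 1, 1, -1, -1, 1, 1, 1, -1, -1]

theorem D4_check_all (r : Fin 24) (c : F) (v : V28) :
    e28 (XD r c *ᵥ v) - (rootM (paD r) (pbD r) ((etD r : F) * c) * x28f v
      * (rootM (paD r) (pbD r) ((etD r : F) * c))ᵀ, - v (.inl 3)) ∈ (U28 : Submodule F (M8 × F)) := by
  fin_cases r
  · simpa [paD, pbD, etD] using D4_check0 c v
  · simpa [paD, pbD, etD] using D4_check1 c v
  · simpa [paD, pbD, etD] using D4_check2 c v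
  · simpa [paD, pbD, etD] using D4_check3 c v
  · simpa [paD, pbD, etD] using D4_check4 c v
  · simpa [paD, pbD, etD] using D4_check5 c v
  · simpa [paD, pbD, etD] using D4_check6 c v
  · simpa [paD, pbD, etD] using D4_check7 c v
  · simpa [paD, pbD, etD] using D4_check8 c v
  · simpa [paD, pbD, etD] using D4_check9 c v
  · simpa [paD, pbD, etD] using D4_check10 c v
  · simpa [paD, pbD, etD] using D4_check11 c v
  · simpa [paD, pbD, etD] using D4_check12 c v
  · simpa [paD, pbD, etD] using D4_check13 c v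
  · simpa [paD, pbD, etD] using D4_check14 c v
  · simpa [paD, pbD, etD] using D4_check15 c v
  · simpa [paD, pbD, etD] using D4_check16 c v
  · simpa [paD, pbD, etD] using D4_check17 c v
  · simpa [paD, pbD, etD] using D4_check18 c v
  · simpa [paD, pbD, etD] using D4_check19 c v
  · simpa [paD, pbD, etD] using D4_check20 c v
  · simpa [paD, pbD, etD] using D4_check21 c v
  · simpa [paD, pbD, etD] using D4_check22 c v
  · simpa [paD, pbD, etD] using D4_check23 c v

theorem etD_sq : ∀ r, etD r * etD r = 1 := by decide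

theorem pair_dict : ∀ a b : I8, b ≠ a.swap → b ≠ a →
    ∃ r, (a = paD r ∧ b = pbD r) ∨ (a = pbD r ∧ b = paD r) := by decide

theorem pbD_ne : ∀ r, pbD r ≠ (paD r).swap := by decide

theorem rootM_swap (a b : I8) (c : F) : rootM b a c = rootM a b (-c) := by
  unfold rootM
  rw [neg_smul, ← smul_neg, neg_sub]

theorem rootM_self (a : I8) (c : F) : rootM a a c = 1 := by
  unfold rootM
  rw [sub_self, smul_zero, add_zero]

theorem adG8_of_rootM (g : G8 F) (r : Fin 24) (c : F)
    (hg : isoMat g = rootM (paD r) (pbD r) ((etD r : F) * c)) :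
    (adG8 g : Matrix (Fin 4 ⊕ Fin 24) (Fin 4 ⊕ Fin 24) F) = XD r c := by
  apply adG8_eq_of
  intro v
  rw [T28_apply, hg]
  exact D4_check_all r c v

/-- the adjoint representation with the official index type -/
noncomputable def adD : G8 F →* GL chevD4.Idx F := adG8

theorem adD_of_rootM (g : G8 F) (r : Fin 24) (c : F)
    (hg : isoMat g = rootM (paD r) (pbD r) ((etD r : F) * c)) :
    (adD g : Matrix chevD4.Idx chevD4.Idx F) = chevD4.xMat F r c := adG8_of_rootM g r c hg

theorem XD_mem (g : GL chevD4.Idx F) (r : Fin 24) (c : F)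
    (h : (g : Matrix chevD4.Idx chevD4.Idx F) = chevD4.xMat F r c) :
    g ∈ chevD4.group F :=
  Subgroup.subset_closure ⟨r, c, h⟩

theorem adG8_rootM_mem (g : G8 F) (a b : I8) (c : F) (hb : b ≠ a.swap)
    (hg : isoMat g = rootM a b c) : adD g ∈ chevD4.group F := by
  by_cases hab : b = a
  · subst hab
    rw [rootM_self] at hg
    have : g = 1 := isoMat_injective hg
    rw [this, map_one]
    exact one_mem _
  · have hsq : ∀ r, ((etD r : ℤ) : F) * ((etD r : ℤ) : F) = 1 := by
      intro r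
      rw [← Int.cast_mul, etD_sq, Int.cast_one]
    obtain ⟨r, ⟨rfl, rfl⟩ | ⟨rfl, rfl⟩⟩ := pair_dict a b hb hab
    · refine XD_mem _ r ((etD r : F) * c) (adD_of_rootM g r _ ?_)
      rw [hg, ← mul_assoc, hsq, one_mul]
    · refine XD_mem _ r ((etD r : F) * (-c)) (adD_of_rootM g r _ ?_)
      rw [hg, rootM_swap, ← mul_assoc, hsq, one_mul]

theorem rootM_mulVec (a b : I8) (c : F) (x : V8) :
    rootM a b c *ᵥ x = x + (c * x b.swap) • e8 a - (c * x a.swap) • e8 b := by
  unfold rootM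
  rw [Matrix.add_mulVec, Matrix.one_mulVec, Matrix.smul_mulVec, Matrix.sub_mulVec]
  ext i
  simp only [Pi.add_apply, Pi.sub_apply, Pi.smul_apply, smul_eq_mul, Matrix.single_mulVec, e8,
    Pi.single_apply, Function.update_apply, Pi.zero_apply]
  split_ifs <;> ring

/-- the matrix of a root element -/
theorem isoMat_of_eiO (g : G8 F) (a b : I8) (c : F) (h : polar Q8 (e8 a) (Pi.single b c) = 0)
    (hg : isoEquiv Q8 g = eiO (e8 a) (Pi.single b c) (Q_e8 a) h) : isoMat g = rootM a b c := by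
  apply Cfsg.Agent.Lib.Helper44.matrix_ext_mulVec
  intro x
  have h1 := isoEquiv_apply Q8 g x
  rw [hg] at h1
  rw [← h1, eiO_e8_apply, polar_single8, Q_single8, rootM_mulVec, single_eq_smul]
  module

/-- The adjoint representation on the abstract orthogonal group. -/
noncomputable def adO8 : O8 →* GL chevD4.Idx F :=
  adD.comp (isoEquiv Q8).symm.toMonoidHom

theorem adO8_E8_le : (E8 : Subgroup O8) ≤ (chevD4.group F).comap adO8 := by
  unfold E8
  rw [Subgroup.closure_le]
  rintro _ ⟨a, b, c, h, rfl⟩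
  rw [SetLike.mem_coe, Subgroup.mem_comap]
  by_cases hb : b = a.swap
  · have hc : c = 0 := by
      rw [polar_e8, hb, Pi.single_eq_same] at h; exact h
    have : ∀ (w : V8) (_ : w = 0) (h : polar Q8 (e8 a) w = 0), eiO (e8 a) w (Q_e8 a) h = 1 := by
      rintro _ rfl h; exact eiO_zero _ _ _
    rw [this _ (by rw [hc]; simp) _, map_one]
    exact one_mem _
  · exact adG8_rootM_mem _ a b c hb (isoMat_of_eiO _ a b c h (by simp))

theorem polar_root (r : Fin 24) (c : F) : polar Q8 (e8 (paD r)) (Pi.single (pbD r) c : V8) = 0 := by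
  rw [polar_e8, Pi.single_eq_of_ne (fun h => pbD_ne r h.symm)]

theorem XD_mem_map (r : Fin 24) (c : F) (g : GL chevD4.Idx F)
    (h : (g : Matrix chevD4.Idx chevD4.Idx F) = chevD4.xMat F r c) :
    g ∈ (E8 : Subgroup O8).map adO8 := by
  refine ⟨eiO (e8 (paD r)) (Pi.single (pbD r) ((etD r : F) * c)) (Q_e8 _) (polar_root r _),
    Subgroup.subset_closure ⟨_, _, _, _, rfl⟩, ?_⟩
  apply Units.ext
  rw [h]
  exact adD_of_rootM _ r c (isoMat_of_eiO _ _ _ _ (polar_root r _) (by simp))

theorem adO8_map_E8 : (E8 : Subgroup O8).map adO8 = chevD4.group F := by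
  apply le_antisymm
  · rw [Subgroup.map_le_iff_le_comap]
    exact adO8_E8_le
  · unfold ChevalleyDatum.group
    rw [Subgroup.closure_le]
    rintro g ⟨r, c, h⟩
    exact XD_mem_map r c g h

/-! ### the kernel -/

theorem ker_aux (g : G8 F) (h : adG8 g = 1) (Y : M8) (s : F) (hfn : qs Y + qs Yᵀ + 2 * s = 0) :
    (Y, s) - T28 g (Y, s) ∈ (U28 : Submodule F (M8 × F)) := by
  have hu := exists_e28 Y s hfn
  have hw := adG8_eq_one g h (k28 Y s)
  have := (U28 : Submodule F (M8 × F)).add_mem ((U28 : Submodule F (M8 × F)).sub_mem hw hu)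
    (T28_U28 g _ hu)
  convert this using 1
  rw [map_sub]
  abel

theorem cong_single8 (g : M8) (i j k l : I8) :
    (g * Matrix.single i j (1 : F) * gᵀ) k l = g k i * g l j := by
  rw [Matrix.mul_apply]
  simp only [Matrix.transpose_apply]
  rw [Finset.sum_eq_single j]
  · rw [Matrix.mul_single_apply_same, mul_one]
  · intro b _ hb
    rw [Matrix.mul_single_apply_of_ne _ _ _ _ _ hb, zero_mul]
  · intro h; exact absurd (Finset.mem_univ j) h

theorem qs_single (a b : I8) (hb : b ≠ a.swap) : qs (Matrix.single a b (1 : F)) = 0 := by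
  unfold qs
  apply Finset.sum_eq_zero
  intro i _
  rw [Matrix.single_apply, if_neg]
  rintro ⟨rfl, rfl⟩
  exact hb rfl

theorem qs_single' (a b : I8) (hb : b ≠ a.swap) : qs (Matrix.single a b (1 : F))ᵀ = 0 := by
  unfold qs
  apply Finset.sum_eq_zero
  intro i _
  rw [Matrix.transpose_apply, Matrix.single_apply, if_neg]
  rintro ⟨rfl, rfl⟩
  exact hb rfl

theorem ker_eq (g : G8 F) (h : adG8 g = 1) (a b : I8) (hb : b ≠ a.swap) (k l : I8) :
    Matrix.single a b (1 : F) l k - isoMat g l a * isoMat g k b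
      = Matrix.single a b (1 : F) k l - isoMat g k a * isoMat g l b := by
  have h1 := ker_aux g h (Matrix.single a b 1) 0
    (by rw [qs_single a b hb, qs_single' a b hb]; ring)
  rw [mem_U28, T28_apply] at h1
  have h2 := congrFun (congrFun h1.1 k) l
  simp only [Prod.fst_sub, Matrix.transpose_apply, Matrix.sub_apply, cong_single8] at h2
  exact h2

theorem exists_adm : ∀ a k : I8, ∃ b : I8, b ≠ a ∧ b ≠ a.swap ∧ b ≠ k := by decide

theorem ker_one (g : G8 F) (h : adG8 g = 1) (a b : I8) (hb : b ≠ a.swap) (hab : b ≠ a) :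
    isoMat g a a * isoMat g b b - isoMat g b a * isoMat g a b = 1 := by
  have := ker_eq g h a b hb a b
  rw [Matrix.single_apply_same, Matrix.single_apply, if_neg (fun hh => hab hh.1.symm)] at this
  linear_combination this

theorem ker_offdiag (g : G8 F) (h : adG8 g = 1) (a k : I8) (hk : k ≠ a) : isoMat g k a = 0 := by
  obtain ⟨b, hab, hb, hbk⟩ := exists_adm a k
  have h1 := ker_one g h a b hb hab
  have h2 := ker_eq g h a b hb k a
  have h3 := ker_eq g h a b hb k b
  rw [Matrix.single_apply, if_neg (fun hh => hbk hh.2), Matrix.single_apply,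
    if_neg (fun hh => hk hh.1.symm)] at h2
  rw [Matrix.single_apply, if_neg (fun hh => hbk hh.2), Matrix.single_apply,
    if_neg (fun hh => hk hh.1.symm)] at h3
  linear_combination (-(isoMat g k a)) * h1 - (isoMat g b a) * h2 + (isoMat g a a) * h3

theorem ker_diag (g : G8 F) (h : adG8 g = 1) (a b : I8) : isoMat g a a = isoMat g b b := by
  obtain ⟨c, hc1, hc2, hc3, hc4⟩ := exists_third a b
  have h1 := ker_one g h a c hc2 hc1
  have h2 := ker_one g h b c hc4 hc3
  rw [ker_offdiag g h a c hc1, zero_mul, sub_zero] at h1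
  rw [ker_offdiag g h b c hc3, zero_mul, sub_zero] at h2
  linear_combination (isoMat g b b) * h1 - (isoMat g a a) * h2

theorem ker_scalar (g : G8 F) (h : adG8 g = 1) :
    isoMat g = (isoMat g (Sum.inl 0) (Sum.inl 0)) • (1 : M8) := by
  ext i j
  by_cases hij : i = j
  · subst hij
    rw [Matrix.smul_apply, Matrix.one_apply_eq, smul_eq_mul, mul_one]
    exact ker_diag g h _ _
  · rw [Matrix.smul_apply, Matrix.one_apply_ne hij, smul_zero]
    exact ker_offdiag g h j i hij

theorem ker_comm (g : G8 F) (h : adG8 g = 1) (x : G8 F) : x * g = g * x := by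
  apply isoMat_injective
  rw [isoMat_mul, isoMat_mul, ker_scalar g h]
  simp

theorem center_chevD4 : Subgroup.center ↥(chevD4.group F) = ⊥ := by
  obtain ⟨hs, hn⟩ := Cfsg.Agent.S1054.result (F := F) chevD4 (by simp)
  rcases hs.eq_bot_or_eq_top_of_normal (Subgroup.center _) inferInstance with h | h
  · exact h
  · exfalso
    apply hn
    constructor
    constructor
    intro a b
    have : a ∈ Subgroup.center ↥(chevD4.group F) := h ▸ Subgroup.mem_top a
    exact ((Subgroup.mem_center_iff.1 this) b).symm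

/-- `D₄(F) ≃* PΩ₈⁺(F)`. -/
theorem chevD4_equiv_pomega :
    Nonempty (↥(chevD4.group F) ≃* Cfsg.POmega F (Cfsg.quadFormPlus 4 F)) := by
  rw [← plusQF_coe]
  have hmem : ∀ ω : Cfsg.Omega F ⇑Q8, adD ω.1 ∈ chevD4.group F := by
    intro ω
    have h1 := (mem_Omega_iff Q8 ω.1).mp ω.2
    rw [commutator_O8_eq] at h1
    have h2 := adO8_E8_le h1
    rw [Subgroup.mem_comap] at h2
    simpa [adO8] using h2
  let π : Cfsg.Omega F ⇑Q8 →* ↥(chevD4.group F) :=
    (adD.comp (Cfsg.Omega F ⇑Q8).subtype).codRestrict _ hmem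
  have hπ : Function.Surjective π := by
    rintro ⟨y, hy⟩
    rw [← adO8_map_E8] at hy
    obtain ⟨x, hx, rfl⟩ := hy
    refine ⟨⟨(isoEquiv Q8).symm x, ?_⟩, ?_⟩
    · rw [mem_Omega_iff, commutator_O8_eq]
      simpa using hx
    · apply Subtype.ext
      rfl
  have hker : π.ker ≤ Subgroup.center (Cfsg.Omega F ⇑Q8) := by
    intro ω hω
    rw [MonoidHom.mem_ker] at hω
    have h1 : adG8 ω.1 = 1 := congrArg Subtype.val hω
    rw [Subgroup.mem_center_iff]
    intro x
    apply Subtype.ext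
    exact ker_comm ω.1 h1 x.1
  obtain ⟨e⟩ := pquot_equiv (MonoidHom.id _) Function.surjective_id π hπ center_chevD4
    (by intro x hx; rw [MonoidHom.mem_ker, MonoidHom.id_apply] at hx; rw [hx]; exact one_mem _) hker
  exact ⟨e.symm⟩

end Cfsg.Agent.Lib.Helper14
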