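import Mathlib
import Cfsg.Agent.Lib.Helper44.Transport

/-! A frame for the exceptional isomorphisms `PΩ(Q) ≃* A / Z(A)`. -/

set_option autoImplicit false

namespace Cfsg.Agent.Lib.Helper14

open Cfsg.Agent.Lib.Helper44

/-- If `φ : A → B` and `π : A → C` are onto, `C` has trivial centre, `ker φ ≤ ker π ≤ Z(A)`, then
`B / Z(B) ≃* C`. -/
theorem pquot_equiv {A B C : Type*} [Group A] [Group B] [Group C] (φ : A →* B)
    (hφ : Function.Surjective φ) (π : A →* C) (hπ : Function.Surjective π)
    (hC : Subgroup.center C = ⊥) (h1 : φ.ker ≤ π.ker) (h2 : π.ker ≤ Subgroup.center A) :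
    Nonempty (B ⧸ Subgroup.center B ≃* C) := by
  let π' : B →* C := φ.liftOfSurjective hφ ⟨π, h1⟩
  have hπ' : ∀ a, π' (φ a) = π a := fun a =>
    MonoidHom.liftOfRightInverse_comp_apply φ _ (Function.rightInverse_surjInv hφ) ⟨π, h1⟩ a
  have hsurj : Function.Surjective π' := by
    intro c
    obtain ⟨a, rfl⟩ := hπ c
    exact ⟨φ a, hπ' a⟩
  have hker : π'.ker = Subgroup.center B := by
    ext b
    obtain ⟨a, rfl⟩ := hφ b
    rw [MonoidHom.mem_ker, hπ']
    constructor
    · intro h
      rw [Subgroup.mem_center_iff]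
      intro b'
      obtain ⟨a', rfl⟩ := hφ b'
      rw [← map_mul, ← map_mul, (Subgroup.mem_center_iff.mp (h2 h)) a']
    · intro h
      have : π a ∈ Subgroup.center C := by
        rw [Subgroup.mem_center_iff]
        intro c
        obtain ⟨a', rfl⟩ := hπ c
        rw [← hπ', ← hπ', ← map_mul π', ← map_mul π', Subgroup.mem_center_iff.mp h]
      rwa [hC, Subgroup.mem_bot] at this
  exact ⟨(QuotientGroup.quotientMulEquivOfEq hker.symm).trans
    (QuotientGroup.quotientKerEquivOfSurjective π' hsurj)⟩

theorem map_mem_commutator {G H : Type*} [Group G] [Group H] (f : G →* H) {g : G}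
    (hg : g ∈ commutator G) : f g ∈ commutator H := by
  have h : (commutator G).map f ≤ commutator H := by
    rw [commutator_def, commutator_def, Subgroup.map_commutator]
    exact Subgroup.commutator_mono le_top le_top
  exact h ⟨g, hg, rfl⟩

section lift

variable {F V W A : Type*} [Field F] [AddCommGroup V] [Module F V] [AddCommGroup W] [Module F W]
  [Group A]

/-- Pull back a representation on `W` to a stable subspace parametrised by `e`. -/
noncomputable def liftFun (e : V →ₗ[F] W) (T : A →* (W ≃ₗ[F] W))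
    (hT : ∀ a v, ∃ v', e v' = T a (e v)) (a : A) (v : V) : V := Classical.choose (hT a v)

theorem liftFun_spec (e : V →ₗ[F] W) (T : A →* (W ≃ₗ[F] W))
    (hT : ∀ a v, ∃ v', e v' = T a (e v)) (a : A) (v : V) :
    e (liftFun e T hT a v) = T a (e v) := Classical.choose_spec (hT a v)

noncomputable def liftRep (e : V →ₗ[F] W) (he : Function.Injective e) (T : A →* (W ≃ₗ[F] W))
    (hT : ∀ a v, ∃ v', e v' = T a (e v)) : A →* (V ≃ₗ[F] V) where
  toFun a :=
    { toFun := liftFun e T hT a
      map_add' := fun x y => he (by simp only [liftFun_spec, map_add])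
      map_smul' := fun c x => he (by simp only [liftFun_spec, map_smul, RingHom.id_apply])
      invFun := liftFun e T hT a⁻¹
      left_inv := fun x => he (by
        simp only [liftFun_spec]
        rw [← LinearEquiv.mul_apply, ← map_mul, inv_mul_cancel, map_one, LinearEquiv.coe_one, id])
      right_inv := fun x => he (by
        simp only [liftFun_spec]
        rw [← LinearEquiv.mul_apply, ← map_mul, mul_inv_cancel, map_one, LinearEquiv.coe_one, id]) }
  map_one' := by
    ext x
    apply he
    show e (liftFun e T hT 1 x) = e x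
    rw [liftFun_spec, map_one, LinearEquiv.coe_one, id]
  map_mul' a b := by
    ext x
    apply he
    show e (liftFun e T hT (a * b) x) = e (liftFun e T hT a (liftFun e T hT b x))
    rw [liftFun_spec, liftFun_spec, liftFun_spec, map_mul, LinearEquiv.mul_apply]

theorem liftRep_spec (e : V →ₗ[F] W) (he : Function.Injective e) (T : A →* (W ≃ₗ[F] W))
    (hT : ∀ a v, ∃ v', e v' = T a (e v)) (a : A) (v : V) :
    e (liftRep e he T hT a v) = T a (e v) := liftFun_spec e T hT a v

/-- The lifted representation as a homomorphism to the orthogonal group. -/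
noncomputable def liftOQ (Q : QuadraticForm F V) (e : V →ₗ[F] W) (he : Function.Injective e)
    (T : A →* (W ≃ₗ[F] W)) (hT : ∀ a v, ∃ v', e v' = T a (e v)) (N : W → F)
    (hN : ∀ v, N (e v) = Q v) (hNT : ∀ a v, N (T a (e v)) = N (e v)) : A →* OQ Q :=
  (liftRep e he T hT).codRestrict (OQ Q) (fun a => by
    intro v
    rw [← hN, liftRep_spec, hNT, hN])

theorem liftOQ_spec (Q : QuadraticForm F V) (e : V →ₗ[F] W) (he : Function.Injective e)
    (T : A →* (W ≃ₗ[F] W)) (hT : ∀ a v, ∃ v', e v' = T a (e v)) (N : W → F)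
    (hN : ∀ v, N (e v) = Q v) (hNT : ∀ a v, N (T a (e v)) = N (e v)) (a : A) (v : V) :
    e ((liftOQ Q e he T hT N hN hNT a : V ≃ₗ[F] V) v) = T a (e v) := liftFun_spec e T hT a v

theorem liftOQ_eq_one_iff (Q : QuadraticForm F V) (e : V →ₗ[F] W) (he : Function.Injective e)
    (T : A →* (W ≃ₗ[F] W)) (hT : ∀ a v, ∃ v', e v' = T a (e v)) (N : W → F)
    (hN : ∀ v, N (e v) = Q v) (hNT : ∀ a v, N (T a (e v)) = N (e v)) (a : A) :
    liftOQ Q e he T hT N hN hNT a = 1 ↔ ∀ v, T a (e v) = e v := by
  constructor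
  · intro h v
    rw [← liftOQ_spec Q e he T hT N hN hNT, h]
    rfl
  · intro h
    apply Subtype.ext
    ext v
    apply he
    rw [liftOQ_spec, h]
    rfl

end lift

section twoSided

variable (F R : Type*) [Field F] [Ring R] [Algebra F R]

/-- The action `x ↦ g x h⁻¹` of `Rˣ × Rˣ` on an algebra `R`. -/
def twoSided : Rˣ × Rˣ →* (R ≃ₗ[F] R) where
  toFun p :=
    { toFun := fun x => (p.1 : R) * x * ((p.2⁻¹ : Rˣ) : R)
      map_add' := fun x y => by rw [mul_add, add_mul]
      map_smul' := fun c x => by simp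
      invFun := fun x => ((p.1⁻¹ : Rˣ) : R) * x * (p.2 : R)
      left_inv := fun x => by simp [mul_assoc]
      right_inv := fun x => by simp [mul_assoc] }
  map_one' := by
    ext x
    simp
  map_mul' a b := by
    ext x
    simp [mul_assoc]

variable {F R}

theorem twoSided_apply (p : Rˣ × Rˣ) (x : R) :
    twoSided F R p x = (p.1 : R) * x * ((p.2⁻¹ : Rˣ) : R) := rfl

end twoSided

section main

variable {F : Type*} [Field F] [Finite F] {ι : Type} [Fintype ι] [DecidableEq ι]

/-- The frame. -/
theorem exc_iso {A C : Type*} [Group A] [Finite A] [Group C] (Q : QuadraticForm F (ι → F))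
    (ρ : A →* OQ Q) (hρ : ∀ a, ρ a ∈ commutator (OQ Q))
    (hcard : Nat.card A = Nat.card ρ.ker * Nat.card (Cfsg.Omega F ⇑Q))
    (π : A →* C) (hπ : Function.Surjective π) (hC : Subgroup.center C = ⊥)
    (h1 : ρ.ker ≤ π.ker) (h2 : π.ker ≤ Subgroup.center A) :
    Nonempty (Cfsg.POmega F ⇑Q ≃* C) := by
  let φ : A →* Cfsg.Omega F ⇑Q :=
    ((isoEquiv Q).symm.toMonoidHom.comp ρ).codRestrict (Cfsg.Omega F ⇑Q) (fun a => by
      rw [mem_Omega_iff]
      simpa using hρ a)
  have hker : φ.ker = ρ.ker := by
    ext a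
    rw [MonoidHom.mem_ker, MonoidHom.mem_ker]
    constructor
    · intro h
      have h' : (isoEquiv Q).symm (ρ a) = 1 := congrArg Subtype.val h
      simpa using h'
    · intro h
      apply Subtype.ext
      show (isoEquiv Q).symm (ρ a) = 1
      rw [h, map_one]
  have hsurj : Function.Surjective φ := by
    rw [← MonoidHom.range_eq_top]
    apply Subgroup.eq_top_of_card_eq
    have e1 := Subgroup.card_eq_card_quotient_mul_card_subgroup φ.ker
    rw [Nat.card_congr (QuotientGroup.quotientKerEquivRange φ).toEquiv, hker, hcard, mul_comm] at e1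
    exact (Nat.eq_of_mul_eq_mul_right Nat.card_pos e1).symm
  exact pquot_equiv φ hsurj π hπ hC (hker ▸ h1) h2

end main

end Cfsg.Agent.Lib.Helper14
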