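import Mathlib

set_option autoImplicit false

namespace Cfsg.Agent.Lib.Helper14

open scoped commutatorElement

theorem commutator_le_of_index_two {G : Type*} [Group G] (H : Subgroup G) (h : H.index = 2) :
    commutator G ≤ H := by
  rw [commutator_eq_closure, Subgroup.closure_le]
  rintro _ ⟨a, b, rfl⟩
  show a * b * a⁻¹ * b⁻¹ ∈ H
  rw [Subgroup.mul_mem_iff_of_index_two h, Subgroup.mul_mem_iff_of_index_two h,
    Subgroup.mul_mem_iff_of_index_two h, inv_mem_iff, inv_mem_iff]
  tauto

/-- An elementary abelian group of order four has exactly three subgroups of index two. -/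
theorem card_index_two_of_klein {A : Type*} [Group A] (hcard : Nat.card A = 4)
    (hsq : ∀ a : A, a * a = 1) : Nat.card {K : Subgroup A // K.index = 2} = 3 := by
  classical
  have : Finite A := Nat.finite_of_card_ne_zero (by omega)
  have hord : ∀ a : A, a ≠ 1 → orderOf a = 2 := by
    intro a ha
    exact orderOf_eq_prime (by rw [sq]; exact hsq a) ha
  have hidx : ∀ a : A, a ≠ 1 → (Subgroup.zpowers a).index = 2 := by
    intro a ha
    have h1 : Nat.card (Subgroup.zpowers a) = 2 := by rw [Nat.card_zpowers, hord a ha]
    have h2 := (Subgroup.zpowers a).card_mul_index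
    rw [h1, hcard] at h2
    omega
  let f : {a : A // a ≠ 1} → {K : Subgroup A // K.index = 2} :=
    fun a => ⟨Subgroup.zpowers a.1, hidx a.1 a.2⟩
  have hmem : ∀ a b : A, b ∈ Subgroup.zpowers a → b = 1 ∨ b = a := by
    intro a b hb
    obtain ⟨k, rfl⟩ := Subgroup.mem_zpowers_iff.mp hb
    rcases Int.even_or_odd' k with ⟨j, rfl | rfl⟩
    · left
      rw [zpow_mul, zpow_two, hsq, one_zpow]
    · right
      rw [zpow_add, zpow_mul, zpow_two, hsq, one_zpow, one_mul, zpow_one]
  have hf : Function.Bijective f := by
    constructor
    · rintro ⟨a, ha⟩ ⟨b, hb⟩ hab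
      have h1 : Subgroup.zpowers a = Subgroup.zpowers b := congrArg Subtype.val hab
      have h2 : a ∈ Subgroup.zpowers b := by rw [← h1]; exact Subgroup.mem_zpowers a
      rcases hmem b a h2 with h | h
      · exact absurd h ha
      · exact Subtype.ext h
    · rintro ⟨K, hK⟩
      have hKc : Nat.card K = 2 := by
        have h2 := K.card_mul_index
        rw [hK, hcard] at h2
        omega
      have hKne : K ≠ ⊥ := by
        rintro rfl
        simp at hKc
      obtain ⟨⟨a, haK⟩, ha⟩ := (Subgroup.ne_bot_iff_exists_ne_one).mp hKne
      have ha1 : a ≠ 1 := fun h => ha (Subtype.ext h)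
      refine ⟨⟨a, ha1⟩, Subtype.ext ?_⟩
      show Subgroup.zpowers a = K
      apply Subgroup.eq_of_le_of_card_ge
      · rw [Subgroup.zpowers_le]; exact haK
      · rw [hKc, Nat.card_zpowers, hord a ha1]
  rw [← Nat.card_congr (Equiv.ofBijective f hf)]
  have := Fintype.ofFinite A
  rw [Nat.card_eq_fintype_card]
  have := Set.card_ne_eq (1 : A)
  rw [← Nat.card_eq_fintype_card (α := A), hcard] at this
  exact this

/-- A group generated by involutions whose commutator subgroup has index four has exactly three
subgroups of index two. -/
theorem card_index_two_of_commutator_index_four {G : Type*} [Group G] (S : Set G)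
    (hS : ∀ s ∈ S, s * s = 1) (hgen : Subgroup.closure S = ⊤) (hidx : (commutator G).index = 4) :
    Nat.card {H : Subgroup G // H.index = 2} = 3 := by
  have hcard : Nat.card (Abelianization G) = 4 := hidx
  have hsurj : Function.Surjective (Abelianization.of : G →* Abelianization G) :=
    QuotientGroup.mk'_surjective _
  have hker : (Abelianization.of : G →* Abelianization G).ker = commutator G :=
    QuotientGroup.ker_mk' _
  have hsq : ∀ a : Abelianization G, a * a = 1 := by
    intro a
    obtain ⟨g, rfl⟩ := hsurj a
    have hg : g ∈ Subgroup.closure S := by rw [hgen]; exact Subgroup.mem_top g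
    induction hg using Subgroup.closure_induction with
    | mem x hx => rw [← map_mul, hS x hx, map_one]
    | one => simp
    | mul x y _ _ hx hy =>
      rw [map_mul, mul_mul_mul_comm, hx, hy, one_mul]
    | inv x _ hx =>
      rw [map_inv, ← mul_inv, hx, inv_one]
  rw [← card_index_two_of_klein hcard hsq]
  apply Nat.card_congr
  refine
    { toFun := fun H => ⟨H.1.map Abelianization.of, ?_⟩
      invFun := fun K => ⟨K.1.comap Abelianization.of, ?_⟩
      left_inv := ?_
      right_inv := ?_ }
  · have h1 : (H.1.map Abelianization.of).comap Abelianization.of = H.1 := by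
      rw [Subgroup.comap_map_eq, hker]
      exact sup_of_le_left (commutator_le_of_index_two H.1 H.2)
    rw [← Subgroup.index_comap_of_surjective _ hsurj, h1]
    exact H.2
  · rw [Subgroup.index_comap_of_surjective _ hsurj]
    exact K.2
  · intro H
    apply Subtype.ext
    show (H.1.map Abelianization.of).comap Abelianization.of = H.1
    rw [Subgroup.comap_map_eq, hker]
    exact sup_of_le_left (commutator_le_of_index_two H.1 H.2)
  · intro K
    apply Subtype.ext
    exact Subgroup.map_comap_eq_self_of_surjective hsurj K.1

end Cfsg.Agent.Lib.Helper14
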