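import Mathlib
import Cfsg.Agent.Lib.Helper14.ExcIso
import Cfsg.Agent.Lib.Helper14.IndexTwo
import Cfsg.Agent.Lib.Helper14.PSL2Embed

/-! Variants of the frame for exceptional isomorphisms. -/

set_option autoImplicit false

namespace Cfsg.Agent.Lib.Helper14

open Cfsg.Agent.Lib.Helper44

section main

variable {F : Type*} [Field F] [Finite F] {ι : Type} [Fintype ι] [DecidableEq ι]

/-- The frame, when the image has index two in the full isometry group. -/
theorem exc_iso_two {A C : Type*} [Group A] [Finite A] [Group C] (Q : QuadraticForm F (ι → F))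
    (ρ : A →* OQ Q) (hρ : ∀ a, ρ a ∈ commutator (OQ Q))
    (hcard : 2 * Nat.card A = Nat.card ρ.ker * Nat.card (Cfsg.isometryGroup F ⇑Q))
    (π : A →* C) (hπ : Function.Surjective π) (hC : Subgroup.center C = ⊥)
    (h1 : ρ.ker ≤ π.ker) (h2 : π.ker ≤ Subgroup.center A) :
    Nonempty (Cfsg.POmega F ⇑Q ≃* C) := by
  refine exc_iso Q ρ hρ ?_ π hπ hC h1 h2
  let ρ' : A →* Cfsg.isometryGroup F ⇑Q := (isoEquiv Q).symm.toMonoidHom.comp ρ
  have hker : ρ'.ker = ρ.ker := by
    ext a
    rw [MonoidHom.mem_ker, MonoidHom.mem_ker]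
    show (isoEquiv Q).symm (ρ a) = 1 ↔ _
    simp
  have e1 := Subgroup.card_eq_card_quotient_mul_card_subgroup ρ'.ker
  rw [Nat.card_congr (QuotientGroup.quotientKerEquivRange ρ').toEquiv, hker] at e1
  have hpos : 0 < Nat.card ρ.ker := Nat.card_pos
  have e2 : Nat.card (Cfsg.isometryGroup F ⇑Q) = Nat.card ρ'.range * 2 := by
    rw [e1] at hcard
    apply Nat.eq_of_mul_eq_mul_left hpos
    rw [← hcard]; ring
  have hidx : ρ'.range.index = 2 := by
    have := Subgroup.card_mul_index ρ'.range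
    rw [e2] at this
    exact Nat.eq_of_mul_eq_mul_left Nat.card_pos this
  have hle : Cfsg.Omega F ⇑Q ≤ ρ'.range := commutator_le_of_index_two _ hidx
  have hge : ρ'.range ≤ Cfsg.Omega F ⇑Q := by
    rintro _ ⟨a, rfl⟩
    rw [mem_Omega_iff]
    simpa [ρ'] using hρ a
  have heq : Cfsg.Omega F ⇑Q = ρ'.range := le_antisymm hle hge
  rw [heq, e1, mul_comm]

end main

/-- A subgroup `{1, m}`. -/
theorem card_pm_one_ne {G : Type*} [Group G] (K : Subgroup G) (m : G) (hm : m ≠ 1)
    (hK : ∀ g, g ∈ K ↔ g = 1 ∨ g = m) : Nat.card K = 2 := by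
  rw [Nat.card_eq_two_iff]
  refine ⟨1, ⟨m, (hK m).mpr (Or.inr rfl)⟩, ?_, ?_⟩
  · intro h
    exact hm (congrArg Subtype.val h).symm
  · ext x
    simp only [Set.mem_insert_iff, Set.mem_singleton_iff, Set.mem_univ, iff_true]
    rcases (hK x.1).mp x.2 with h | h
    · left; exact Subtype.ext h
    · right; exact Subtype.ext h

theorem card_pm_one_eq {G : Type*} [Group G] (K : Subgroup G)
    (hK : ∀ g, g ∈ K → g = 1) : Nat.card K = 1 := by
  have : K = ⊥ := by
    rw [eq_bot_iff]
    intro g hg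
    rw [Subgroup.mem_bot]
    exact hK g hg
  rw [this]
  simp

/-- Finite fields of the same order have isomorphic `PSL₂`. -/
theorem psl2_equiv_of_card_eq {K L : Type*} [Field K] [Fintype K] [Field L] [Fintype L]
    (h : Fintype.card K = Fintype.card L) :
    Nonempty (Matrix.ProjectiveSpecialLinearGroup (Fin 2) K ≃*
      Matrix.ProjectiveSpecialLinearGroup (Fin 2) L) := by
  let f : K ≃+* L := FiniteField.ringEquivOfCardEq h
  obtain ⟨φ, hφ⟩ := exists_psl2_embedding (f : K →+* L)
  obtain ⟨ψ, hψ⟩ := exists_psl2_embedding (f.symm : L →+* K)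
  have hfin : Finite (Matrix.ProjectiveSpecialLinearGroup (Fin 2) K) :=
    inferInstanceAs (Finite (_ ⧸ _))
  have hfin' : Finite (Matrix.ProjectiveSpecialLinearGroup (Fin 2) L) :=
    inferInstanceAs (Finite (_ ⧸ _))
  have hle : Nat.card (Matrix.ProjectiveSpecialLinearGroup (Fin 2) L) ≤
      Nat.card (Matrix.ProjectiveSpecialLinearGroup (Fin 2) K) := Nat.card_le_card_of_injective ψ hψ
  have hbij : Function.Bijective φ := by
    rw [Nat.bijective_iff_injective_and_card]
    exact ⟨hφ, le_antisymm (Nat.card_le_card_of_injective φ hφ) hle⟩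
  exact ⟨MulEquiv.ofBijective φ hbij⟩

end Cfsg.Agent.Lib.Helper14
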