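import Mathlib
import Cfsg.Agent.Lib.Helper17.Small

/-! Conjugacy classes of Klein four-subgroups by counting. -/

set_option autoImplicit false

namespace Cfsg.Agent.Lib.Helper14

variable {G : Type*} [Group G]

theorem isKleinFour_map_conj {V : Subgroup G} (hV : IsKleinFour V) (g : G) :
    IsKleinFour (V.map (MulAut.conj g).toMonoidHom) := by
  let e : V ≃* V.map (MulAut.conj g).toMonoidHom :=
    V.equivMapOfInjective _ (MulAut.conj g).injective
  exact ⟨by rw [← Nat.card_congr e.toEquiv, hV.card_four],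
    by rw [← Monoid.exponent_eq_of_mulEquiv e, hV.exponent_two]⟩

theorem map_conj_mul (V : Subgroup G) (a b : G) :
    V.map (MulAut.conj (a * b)).toMonoidHom
      = (V.map (MulAut.conj b).toMonoidHom).map (MulAut.conj a).toMonoidHom := by
  rw [Subgroup.map_map]
  congr 1
  ext x
  simp [mul_assoc]

theorem map_conj_one (V : Subgroup G) : V.map (MulAut.conj (1 : G)).toMonoidHom = V := by
  ext x
  simp

/-- the set of conjugates of `V` -/
def conjOrbit (V : Subgroup G) : Set (Subgroup G) :=
  {W | ∃ g : G, W = V.map (MulAut.conj g).toMonoidHom}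

theorem ncard_conjOrbit (V : Subgroup G) :
    (conjOrbit V).ncard = (Subgroup.normalizer (V : Set G)).index := by
  let φ : G → Subgroup G := fun g => V.map (MulAut.conj g).toMonoidHom
  have hset : conjOrbit V = Set.range φ := by
    ext W
    constructor
    · rintro ⟨g, rfl⟩; exact ⟨g, rfl⟩
    · rintro ⟨g, rfl⟩; exact ⟨g, rfl⟩
  have hker : Setoid.ker φ = QuotientGroup.leftRel (Subgroup.normalizer (V : Set G)) := by
    ext a b
    rw [Setoid.ker_def, QuotientGroup.leftRel_apply, Subgroup.mem_normalizer_iff_map_conj_eq]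
    have h1 : V.map (MulAut.conj (a⁻¹ * b) : G →* G) = V.map (MulAut.conj (a⁻¹ * b)).toMonoidHom := rfl
    rw [h1, map_conj_mul]
    constructor
    · intro h
      show (φ b).map (MulAut.conj a⁻¹).toMonoidHom = V
      rw [← h]
      show (V.map (MulAut.conj a).toMonoidHom).map (MulAut.conj a⁻¹).toMonoidHom = V
      rw [← map_conj_mul, inv_mul_cancel, map_conj_one]
    · intro h
      have h2 := congrArg (fun W => W.map (MulAut.conj a).toMonoidHom) h
      rw [← map_conj_mul, ← map_conj_mul, mul_inv_cancel, one_mul] at h2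
      exact h2.symm
  rw [hset, ← Nat.card_coe_set_eq, ← Nat.card_congr (Setoid.quotientKerEquivRange φ), hker]
  rfl

theorem conjOrbit_disjoint {V W : Subgroup G} (h : W ∉ conjOrbit V) :
    Disjoint (conjOrbit V) (conjOrbit W) := by
  rw [Set.disjoint_left]
  rintro U ⟨a, rfl⟩ ⟨b, hb⟩
  apply h
  refine ⟨b⁻¹ * a, ?_⟩
  rw [map_conj_mul, hb, ← map_conj_mul, inv_mul_cancel, map_conj_one]

/-- If `12 · #V₄ = |G|` and every four-group has a normaliser of order `24`, there are exactly two
classes of four-groups. -/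
theorem two_classes_klein [Finite G]
    (hcount : 12 * Nat.card {V : Subgroup G // IsKleinFour V} = Nat.card G)
    (hN : ∀ V : Subgroup G, IsKleinFour V → Nat.card (Subgroup.normalizer (V : Set G)) = 24) :
    ∃ V₁ V₂ : Subgroup G, IsKleinFour V₁ ∧ IsKleinFour V₂ ∧
      (¬ ∃ g : G, V₂ = V₁.map (MulAut.conj g).toMonoidHom) ∧
      ∀ W : Subgroup G, IsKleinFour W → (∃ g : G, W = V₁.map (MulAut.conj g).toMonoidHom) ∨
        (∃ g : G, W = V₂.map (MulAut.conj g).toMonoidHom) := by
  classical
  set K : Set (Subgroup G) := {V | IsKleinFour V} with hK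
  have hKcard : 12 * K.ncard = Nat.card G := by
    rw [← hcount]; rfl
  have hGpos : 0 < Nat.card G := Nat.card_pos
  have horb : ∀ V ∈ K, 24 * (conjOrbit V).ncard = Nat.card G := by
    intro V hV
    rw [ncard_conjOrbit, ← hN V hV, Subgroup.card_mul_index]
  have hsub : ∀ V ∈ K, conjOrbit V ⊆ K := by
    rintro V hV W ⟨g, rfl⟩
    exact isKleinFour_map_conj hV g
  obtain ⟨V₁, hV₁⟩ : K.Nonempty := by
    rw [← Set.ncard_pos]
    omega
  obtain ⟨V₂, hV₂, hV₂'⟩ : ∃ V₂ ∈ K, V₂ ∉ conjOrbit V₁ := by
    apply Set.exists_mem_notMem_of_ncard_lt_ncard _ (Set.toFinite _)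
    have := horb V₁ hV₁
    omega
  refine ⟨V₁, V₂, hV₁, hV₂, hV₂', ?_⟩
  have hunion : conjOrbit V₁ ∪ conjOrbit V₂ = K := by
    apply Set.eq_of_subset_of_ncard_le (Set.union_subset (hsub V₁ hV₁) (hsub V₂ hV₂))
    rw [Set.ncard_union_eq (conjOrbit_disjoint hV₂')]
    have h1 := horb V₁ hV₁
    have h2 := horb V₂ hV₂
    omega
  intro W hW
  have : W ∈ conjOrbit V₁ ∪ conjOrbit V₂ := by rw [hunion]; exact hW
  exact this

/-- Order of the normaliser of a self-centralising four-group when `8 ∣ |G|` and the number of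
four-groups is `|G| / 12`. -/
theorem card_normalizer_klein [Finite G]
    (hcount : 12 * Nat.card {V : Subgroup G // IsKleinFour V} = Nat.card G)
    (h8 : 8 ∣ Nat.card G) (V : Subgroup G) (hV : IsKleinFour V)
    (hC : Subgroup.centralizer (V : Set G) = V) :
    Nat.card (Subgroup.normalizer (V : Set G)) = 24 := by
  classical
  have hfinV : Finite V := IsKleinFour.instFinite
  have : Fact (Nat.Prime 2) := ⟨Nat.prime_two⟩
  have h8N : 8 ∣ Nat.card (Subgroup.normalizer (V : Set G)) := by
    have := Sylow.card_normalizer_modEq_card (G := G) (p := 2) (n := 2) (H := V)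
      (by rw [hV.card_four]; norm_num)
    exact (Nat.modEq_zero_iff_dvd.1 (this.trans (Nat.modEq_zero_iff_dvd.2 h8)))
  have h24 : Nat.card (Subgroup.normalizer (V : Set G)) ∣ 24 := by
    have h1 := Cfsg.Agent.Lib.Helper17.relIndex_centralizer_normalizer_dvd V
    have h2 := Cfsg.Agent.Lib.Helper17.card_mulAut_dvd_factorial V
    rw [hV.card_four] at h2
    rw [hC] at h1
    have h3 : V.relIndex (Subgroup.normalizer (V : Set G)) ∣ 6 := h1.trans h2
    have h4 : Nat.card (V.subgroupOf (Subgroup.normalizer (V : Set G)))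
        * (V.subgroupOf (Subgroup.normalizer (V : Set G))).index
          = Nat.card (Subgroup.normalizer (V : Set G)) := Subgroup.card_mul_index _
    rw [Nat.card_congr (Subgroup.subgroupOfEquivOfLe Subgroup.le_normalizer).toEquiv,
      hV.card_four] at h4
    rw [← h4]
    exact Nat.mul_dvd_mul_left 4 h3
  -- the orbit of `V` has at most `|G| / 12` elements
  have hle : (conjOrbit V).ncard ≤ Nat.card {V : Subgroup G // IsKleinFour V} := by
    have : conjOrbit V ⊆ {V | IsKleinFour V} := by
      rintro W ⟨g, rfl⟩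
      exact isKleinFour_map_conj hV g
    exact Set.ncard_le_ncard this (Set.toFinite _)
  rw [ncard_conjOrbit] at hle
  have hmul := Subgroup.card_mul_index (Subgroup.normalizer (V : Set G))
  obtain ⟨a, ha⟩ := h8N
  obtain ⟨b, hb⟩ := h24
  have hGpos : 0 < Nat.card G := Nat.card_pos
  have hidx : 0 < (Subgroup.normalizer (V : Set G)).index := by
    rcases Nat.eq_zero_or_pos (Subgroup.normalizer (V : Set G)).index with h | h
    · rw [h] at hmul; omega
    · exact h
  -- `|N| ∈ {8, 24}` and `|N| ≥ 12`
  have hge : 12 ≤ Nat.card (Subgroup.normalizer (V : Set G)) := by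
    by_contra hlt
    push Not at hlt
    have h5 : Nat.card (Subgroup.normalizer (V : Set G)) * (Subgroup.normalizer (V : Set G)).index
        < 12 * (Subgroup.normalizer (V : Set G)).index :=
      Nat.mul_lt_mul_of_pos_right hlt hidx
    have h6 : 12 * (Subgroup.normalizer (V : Set G)).index
        ≤ 12 * Nat.card {V : Subgroup G // IsKleinFour V} := Nat.mul_le_mul_left 12 hle
    omega
  rw [ha] at hb hge ⊢
  have ha3 : a * b = 3 := by
    have : 8 * (a * b) = 8 * 3 := by rw [← mul_assoc, ← hb]
    omega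
  have : a ∣ 3 := ⟨b, ha3.symm⟩
  rcases (Nat.dvd_prime Nat.prime_three).mp this with h | h
  · omega
  · omega

end Cfsg.Agent.Lib.Helper14
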