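import Mathlib
import Cfsg.Agent.Lib.Helper9.KleinFour
import Cfsg.Agent.Lib.Helper69.ClassSize

/-! Counting Klein four-subgroups through commuting pairs of involutions. -/

set_option autoImplicit false

namespace Cfsg.Agent.Lib.Helper14

variable {G : Type*} [Group G]

/-- ordered pairs of distinct commuting involutions -/
abbrev InvPair (G : Type*) [Group G] : Type _ :=
  {p : G × G // orderOf p.1 = 2 ∧ orderOf p.2 = 2 ∧ p.2 ≠ p.1 ∧ p.2 * p.1 = p.1 * p.2}

theorem card_pairs_of_card_three {α : Type*} [Finite α] (h : Nat.card α = 3) :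
    Nat.card {p : α × α // p.2 ≠ p.1} = 6 := by
  classical
  have : Fintype α := Fintype.ofFinite α
  rw [Nat.card_eq_fintype_card] at h ⊢
  have h1 : Fintype.card {p : α × α // p.2 ≠ p.1} = (Finset.univ : Finset α).offDiag.card := by
    rw [Fintype.card_subtype]
    congr 1
    ext p
    simp [Finset.mem_offDiag, ne_comm]
  rw [h1, Finset.offDiag_card, Finset.card_univ, h]

theorem card_klein_pairs (K : Type*) [Group K] [hK : IsKleinFour K] :
    Nat.card {p : K × K // p.1 ≠ 1 ∧ p.2 ≠ 1 ∧ p.2 ≠ p.1} = 6 := by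
  classical
  have : Finite K := IsKleinFour.instFinite
  have h3 : Nat.card {x : K // x ≠ 1} = 3 := by
    have : Fintype K := Fintype.ofFinite K
    rw [Nat.card_eq_fintype_card, Fintype.card_subtype_compl, Fintype.card_subtype_eq,
      ← Nat.card_eq_fintype_card, hK.card_four]
  rw [← card_pairs_of_card_three h3]
  refine Nat.card_congr
    { toFun := fun p => ⟨(⟨p.1.1, p.2.1⟩, ⟨p.1.2, p.2.2.1⟩), fun h => p.2.2.2 (congrArg Subtype.val h)⟩
      invFun := fun p => ⟨(p.1.1.1, p.1.2.1), p.1.1.2, p.1.2.2, fun h => p.2 (Subtype.ext h)⟩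
      left_inv := fun p => rfl
      right_inv := fun p => rfl }

theorem orderOf_two_iff {x : G} : orderOf x = 2 ↔ x ≠ 1 ∧ x ^ 2 = 1 := by
  constructor
  · intro h
    refine ⟨?_, ?_⟩
    · rintro rfl
      simp at h
    · rw [← h]; exact pow_orderOf_eq_one x
  · rintro ⟨h1, h2⟩
    exact orderOf_eq_prime h2 h1

/-- `6 · #V₄ = #` ordered pairs of distinct commuting involutions. -/
theorem card_invPair_eq [Finite G] :
    Nat.card (InvPair G) = 6 * Nat.card {V : Subgroup G // IsKleinFour V} := by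
  classical
  have : Fintype {V : Subgroup G // IsKleinFour V} := Fintype.ofFinite _
  have hsig : Nat.card (Σ V : {V : Subgroup G // IsKleinFour V},
      {p : V.1 × V.1 // p.1 ≠ 1 ∧ p.2 ≠ 1 ∧ p.2 ≠ p.1}) = 6 * Nat.card {V : Subgroup G // IsKleinFour V} := by
    rw [Nat.card_sigma]
    have : ∀ V : {V : Subgroup G // IsKleinFour V},
        Nat.card {p : V.1 × V.1 // p.1 ≠ 1 ∧ p.2 ≠ 1 ∧ p.2 ≠ p.1} = 6 := by
      intro V
      have := V.2
      exact card_klein_pairs V.1
    simp only [this, Finset.sum_const, Finset.card_univ, smul_eq_mul, Nat.card_eq_fintype_card]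
    ring
  rw [← hsig]
  symm
  let f : (Σ V : {V : Subgroup G // IsKleinFour V},
      {p : V.1 × V.1 // p.1 ≠ 1 ∧ p.2 ≠ 1 ∧ p.2 ≠ p.1}) → InvPair G := fun x =>
    ⟨((x.2.1.1 : G), (x.2.1.2 : G)), by
      have hV := x.1.2
      refine ⟨?_, ?_, ?_, ?_⟩
      · exact orderOf_two_iff.mpr ⟨fun h => x.2.2.1 (Subtype.ext h),
          Cfsg.Agent.Lib.Helper9.IsKleinFour.sq_eq_one hV x.2.1.1.2⟩
      · exact orderOf_two_iff.mpr ⟨fun h => x.2.2.2.1 (Subtype.ext h),
          Cfsg.Agent.Lib.Helper9.IsKleinFour.sq_eq_one hV x.2.1.2.2⟩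
      · exact fun h => x.2.2.2.2 (Subtype.ext h)
      · exact Cfsg.Agent.Lib.Helper9.IsKleinFour.comm hV x.2.1.2.2 x.2.1.1.2⟩
  have hclosure : ∀ (V : Subgroup G) (_ : IsKleinFour V) (a b : G), a ∈ V → b ∈ V → a ≠ 1 → b ≠ 1 →
      b ≠ a → V = Subgroup.closure {a, b} := by
    intro V hV a b ha hb ha1 hb1 hba
    symm
    have hK := Cfsg.Agent.Lib.Helper9.isKleinFour_closure_pair ha1 hb1 (Ne.symm hba)
      (Cfsg.Agent.Lib.Helper9.IsKleinFour.sq_eq_one hV ha)
      (Cfsg.Agent.Lib.Helper9.IsKleinFour.sq_eq_one hV hb)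
      (Cfsg.Agent.Lib.Helper9.IsKleinFour.comm hV ha hb)
    apply Subgroup.eq_of_le_of_card_ge
    · rw [Subgroup.closure_le]
      rintro x (rfl | rfl)
      · exact ha
      · exact hb
    · rw [hK.card_four, hV.card_four]
  apply Nat.card_eq_of_bijective f
  constructor
  · rintro ⟨⟨V, hV⟩, ⟨⟨a, b⟩, h1, h2, h3⟩⟩ ⟨⟨V', hV'⟩, ⟨⟨a', b'⟩, h1', h2', h3'⟩⟩ heq
    have heq' := congrArg Subtype.val heq
    simp only [f, Prod.mk.injEq] at heq'
    obtain ⟨hab, hbb⟩ := heq'
    have e1 := hclosure V hV a b a.2 b.2 (fun h => h1 (Subtype.ext h)) (fun h => h2 (Subtype.ext h))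
      (fun h => h3 (Subtype.ext h))
    have e2 := hclosure V' hV' a' b' a'.2 b'.2 (fun h => h1' (Subtype.ext h))
      (fun h => h2' (Subtype.ext h)) (fun h => h3' (Subtype.ext h))
    have hVV : V = V' := by rw [e1, e2, hab, hbb]
    subst hVV
    have ha : a = a' := Subtype.ext hab
    have hb : b = b' := Subtype.ext hbb
    subst ha hb
    rfl
  · rintro ⟨⟨t, s⟩, h1, h2, h3, h4⟩
    obtain ⟨ht1, ht2⟩ := orderOf_two_iff.mp h1
    obtain ⟨hs1, hs2⟩ := orderOf_two_iff.mp h2
    have hK := Cfsg.Agent.Lib.Helper9.isKleinFour_closure_pair ht1 hs1 (Ne.symm h3) ht2 hs2 h4.symm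
    refine ⟨⟨⟨Subgroup.closure {t, s}, hK⟩, ⟨(⟨t, Subgroup.subset_closure (by simp)⟩,
      ⟨s, Subgroup.subset_closure (by simp)⟩), ?_, ?_, ?_⟩⟩, rfl⟩
    · exact fun h => ht1 (congrArg Subtype.val h)
    · exact fun h => hs1 (congrArg Subtype.val h)
    · exact fun h => h3 (congrArg Subtype.val h)

/-- If all involutions are conjugate and in the centraliser of each involution `t` exactly half
of the elements are involutions different from `t`, then `12 · #V₄ = |G|`. -/
theorem twelve_mul_card_klein [Finite G]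
    (hconj : ∀ x y : G, orderOf x = 2 → orderOf y = 2 → IsConj x y)
    (hex : ∃ t : G, orderOf t = 2)
    (hcent : ∀ t : G, orderOf t = 2 →
      2 * Nat.card {s : G // orderOf s = 2 ∧ s ≠ t ∧ s * t = t * s}
        = Nat.card (Subgroup.centralizer ({t} : Set G))) :
    12 * Nat.card {V : Subgroup G // IsKleinFour V} = Nat.card G := by
  classical
  have : Fintype {t : G // orderOf t = 2} := Fintype.ofFinite _
  have hP : Nat.card (InvPair G) = ∑ t : {t : G // orderOf t = 2},
      Nat.card {s : G // orderOf s = 2 ∧ s ≠ t.1 ∧ s * t.1 = t.1 * s} := by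
    rw [← Nat.card_sigma]
    exact Nat.card_congr
      { toFun := fun p => ⟨⟨p.1.1, p.2.1⟩, ⟨p.1.2, p.2.2⟩⟩
        invFun := fun x => ⟨(x.1.1, x.2.1), x.1.2, x.2.2⟩
        left_inv := fun p => rfl
        right_inv := fun x => rfl }
  have hcl : ∀ t : {t : G // orderOf t = 2},
      Nat.card (Subgroup.centralizer ({t.1} : Set G)) * Nat.card {t : G // orderOf t = 2}
        = Nat.card G := by
    intro t
    rw [← Subgroup.card_mul_index (Subgroup.centralizer ({t.1} : Set G)),
      Cfsg.Agent.Lib.Helper69.index_centralizer_eq_card_carrier]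
    congr 1
    apply Nat.card_congr
    apply Equiv.subtypeEquivRight
    intro y
    rw [ConjClasses.mem_carrier_iff_mk_eq, ConjClasses.mk_eq_mk_iff_isConj]
    constructor
    · intro hy
      exact hconj _ _ hy t.2
    · intro hy
      obtain ⟨c, hc⟩ := isConj_iff.mp hy
      have := (MulAut.conj c).orderOf_eq y
      rw [MulAut.conj_apply, hc, t.2] at this
      exact this.symm
  have hpos : 0 < Nat.card {t : G // orderOf t = 2} := by
    obtain ⟨t, ht⟩ := hex
    have : Nonempty {t : G // orderOf t = 2} := ⟨⟨t, ht⟩⟩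
    exact Nat.card_pos
  have h2P : 2 * Nat.card (InvPair G) = Nat.card G := by
    apply Nat.eq_of_mul_eq_mul_right hpos
    rw [hP, Finset.mul_sum, Finset.sum_mul]
    have : ∀ t : {t : G // orderOf t = 2},
        2 * Nat.card {s : G // orderOf s = 2 ∧ s ≠ t.1 ∧ s * t.1 = t.1 * s}
          * Nat.card {t : G // orderOf t = 2} = Nat.card G := by
      intro t
      rw [hcent t.1 t.2, hcl t]
    rw [Finset.sum_congr rfl (fun t _ => this t), Finset.sum_const, Finset.card_univ, smul_eq_mul,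
      Nat.card_eq_fintype_card (α := {t : G // orderOf t = 2})]
    ring
  rw [← h2P, card_invPair_eq]
  ring

end Cfsg.Agent.Lib.Helper14
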