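import Mathlib
import Cfsg.Agent.Lib.Helper14.KleinNormal

/-! The normaliser of a self-centralising four-group. -/

set_option autoImplicit false

namespace Cfsg.Agent.Lib.Helper14

variable {G : Type*} [Group G]

theorem isKleinFour_of_mulEquiv {A B : Type*} [Group A] [Group B] (e : A ≃* B)
    (hA : IsKleinFour A) : IsKleinFour B :=
  ⟨by rw [← Nat.card_congr e.toEquiv, hA.card_four],
    by rw [← Monoid.exponent_eq_of_mulEquiv e, hA.exponent_two]⟩

theorem klein_subgroupOf_normalizer (V : Subgroup G) (hV : IsKleinFour V)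
    (hC : Subgroup.centralizer (V : Set G) = V) :
    IsKleinFour (V.subgroupOf (Subgroup.normalizer (V : Set G))) ∧
      Subgroup.centralizer ((V.subgroupOf (Subgroup.normalizer (V : Set G)) :
        Subgroup (Subgroup.normalizer (V : Set G))) : Set (Subgroup.normalizer (V : Set G)))
        = V.subgroupOf (Subgroup.normalizer (V : Set G)) := by
  refine ⟨isKleinFour_of_mulEquiv (Subgroup.subgroupOfEquivOfLe Subgroup.le_normalizer).symm hV, ?_⟩
  ext x
  have hx : (x : G) ∈ V ↔ (x : G) ∈ Subgroup.centralizer (V : Set G) := by rw [hC]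
  rw [Subgroup.mem_subgroupOf, hx, Subgroup.mem_centralizer_iff, Subgroup.mem_centralizer_iff]
  constructor
  · intro h w hw
    have := h ⟨w, Subgroup.le_normalizer hw⟩ (by
      show (⟨w, Subgroup.le_normalizer hw⟩ : Subgroup.normalizer (V : Set G)) ∈
        V.subgroupOf (Subgroup.normalizer (V : Set G))
      rw [Subgroup.mem_subgroupOf]; exact hw)
    exact congrArg Subtype.val this
  · intro h w hw
    apply Subtype.ext
    exact h w.1 (Subgroup.mem_subgroupOf.mp hw)

theorem normalizer_klein_equiv_perm [Finite G] (V : Subgroup G) (hV : IsKleinFour V)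
    (hC : Subgroup.centralizer (V : Set G) = V)
    (hN : Nat.card (Subgroup.normalizer (V : Set G)) = 24) :
    Nonempty (Subgroup.normalizer (V : Set G) ≃* Equiv.Perm (Fin 4)) := by
  obtain ⟨h1, h2⟩ := klein_subgroupOf_normalizer V hV hC
  have : (V.subgroupOf (Subgroup.normalizer (V : Set G))).Normal := Subgroup.normal_in_normalizer
  exact klein_normal_equiv_perm _ h1 h2 hN

theorem normalizer_klein_equiv_alt [Finite G] (V : Subgroup G) (hV : IsKleinFour V)
    (hC : Subgroup.centralizer (V : Set G) = V)
    (hN : Nat.card (Subgroup.normalizer (V : Set G)) = 12) :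
    Nonempty (Subgroup.normalizer (V : Set G) ≃* alternatingGroup (Fin 4)) := by
  obtain ⟨h1, h2⟩ := klein_subgroupOf_normalizer V hV hC
  have : (V.subgroupOf (Subgroup.normalizer (V : Set G))).Normal := Subgroup.normal_in_normalizer
  exact klein_normal_equiv_alt _ h1 h2 hN

end Cfsg.Agent.Lib.Helper14
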