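import Mathlib
import Cfsg.Prelude
import Cfsg.Agent.Lib.Helper14.DiscQuad
import Cfsg.Agent.Lib.Helper14.DiscWitt
import Cfsg.Agent.Lib.Helper44.OrthFamily

/-! `-1 ∈ Ω(Q)` iff the discriminant is a square (even dimension, odd characteristic),
for an arbitrary finite index type. -/

set_option autoImplicit false

namespace Cfsg.Agent.Lib.Helper14

open Module QuadraticMap Matrix

variable {F : Type*} [Field F] {ι : Type} [Fintype ι] [DecidableEq ι]

theorem orthogonal_expansion (h2 : (2 : F) ≠ 0) {V : Type*} [AddCommGroup V] [Module F V]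
    (Q : QuadraticForm F V) {κ : Type*} [Fintype κ] (v : Basis κ F V)
    (hv : ∀ i j, i ≠ j → polar Q (v i) (v j) = 0) (hv' : ∀ i, Q (v i) ≠ 0) (x : V) :
    ∑ k, ((Q (v k))⁻¹ * polar Q (v k) x) • v k = (2 : F) • x := by
  classical
  have hpol : ∀ k, polar Q (v k) x = v.repr x k * (2 * Q (v k)) := by
    intro k
    conv_lhs => rw [← v.sum_repr x]
    have : polar Q (v k) (∑ i, v.repr x i • v i) = ∑ i, v.repr x i * polar Q (v k) (v i) := by
      have := map_sum (polarBilin Q (v k)) (fun i => v.repr x i • v i) Finset.univ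
      simpa using this
    rw [this, Finset.sum_eq_single k]
    · rw [polar_self]; simp
    · intro j _ hj
      rw [hv k j (Ne.symm hj), mul_zero]
    · simp
  conv_rhs => rw [← v.sum_repr x]
  rw [Finset.smul_sum]
  refine Finset.sum_congr rfl fun k _ => ?_
  rw [hpol, smul_smul]
  congr 1
  field_simp [hv' k]

theorem neg_one_mem_Omega_iff [Fintype F] (h2 : (2 : F) ≠ 0) (Q : QuadraticForm F (ι → F))
    (hQ : (polarBilin Q).Nondegenerate) (he : Even (Fintype.card ι)) (d : F)
    (hd : HasDisc (polarBilin Q) d) :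
    (∃ g : ↥(Cfsg.isometryGroup F ⇑Q), g ∈ Cfsg.Omega F ⇑Q ∧
      ((g : GL ι F) : Matrix ι ι F) = -1) ↔ IsSquare d := by
  obtain ⟨v, hv, hv'⟩ := exists_orthogonal_basis' h2 (polarBilin Q) (polarBilin_isSymm Q) hQ
  have hfr : finrank F (ι → F) = Fintype.card ι := by simp
  have hw : ∀ k k', k ≠ k' → polar Q (v k) (v k') = 0 := fun k k' h => hv k k' h
  have hQw : ∀ k, Q (v k) ≠ 0 := by
    intro k h
    apply hv' k
    show polar Q (v k) (v k) = 0
    rw [polar_self, h]; simp
  have hM : ∀ x : ι → F, (-1 : Matrix ι ι F) *ᵥ x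
      = x - ∑ k ∈ Finset.univ, ((Q (v k))⁻¹ * polar Q (v k) x) • v k := by
    intro x
    rw [orthogonal_expansion h2 Q v hw hQw x, Matrix.neg_mulVec, Matrix.one_mulVec, two_smul]
    abel
  have hdisc : HasDisc (polarBilin Q) (2 ^ Fintype.card ι * ∏ k, Q (v k)) := by
    have := hasDisc_of_basis (polarBilin Q) v
    convert this using 1
    have hdiag : LinearMap.BilinForm.toMatrix v (polarBilin Q)
        = Matrix.diagonal (fun k => 2 * Q (v k)) := by
      ext i j
      rw [LinearMap.BilinForm.toMatrix_apply]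
      by_cases hij : i = j
      · subst hij
        rw [Matrix.diagonal_apply_eq]
        show polar Q (v i) (v i) = _
        rw [polar_self]; simp
      · rw [Matrix.diagonal_apply_ne _ hij]
        exact hw i j hij
    rw [hdiag, Matrix.det_diagonal, Finset.prod_mul_distrib, Finset.prod_const, Finset.card_univ,
      Fintype.card_fin]
    congr 2
    exact hfr.symm
  have hsq : IsSquare d ↔ IsSquare (∏ k, Q (v k)) := by
    obtain ⟨t, ht, hrel⟩ := hdisc.rel hd
    obtain ⟨j, hj⟩ := he
    rw [hrel, isSquare_sq_mul_iff ht, hj, pow_add, isSquare_sq_mul_iff (pow_ne_zero _ h2)]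
  have hcard : Even (Finset.univ : Finset (Fin (finrank F (ι → F)))).card := by
    rw [Finset.card_univ, Fintype.card_fin, hfr]; exact he
  rw [hsq]
  constructor
  · rintro ⟨g, hg, hg1⟩
    exact ((Cfsg.Agent.Lib.Helper44.mem_Omega_iff_of_family h2 Q hQ (fun k => v k) hw Finset.univ
      (fun k _ => hQw k) g (by rw [hg1]; exact hM)).1 hg).2
  · intro h
    obtain ⟨g, hg1⟩ := Cfsg.Agent.Lib.Helper44.exists_isometry_of_family Q (fun k => v k) hw
      Finset.univ (-1) hM
    refine ⟨g, ?_, hg1⟩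
    exact (Cfsg.Agent.Lib.Helper44.mem_Omega_iff_of_family h2 Q hQ (fun k => v k) hw Finset.univ
      (fun k _ => hQw k) g (by rw [hg1]; exact hM)).2 ⟨hcard, h⟩

end Cfsg.Agent.Lib.Helper14
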