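import Mathlib
import Cfsg.Agent.Lib.Helper41.SL2Invol
import Cfsg.Agent.Lib.Helper41.QuadForm
import Cfsg.Agent.Lib.Helper41.SylowTorus

/-! Elements of order four in `SL₂(F)`, odd characteristic. -/

set_option autoImplicit false

namespace Cfsg.Agent.Lib.Helper14

open Cfsg.Agent.Lib.Helper41

variable {F : Type*} [Field F]

local notation "S" => Matrix.SpecialLinearGroup (Fin 2) F

theorem sl2_sq_neg_one_of_pow_four (h2 : (2 : F) ≠ 0) (x : S) (h4 : x ^ 4 = 1) (h1 : x ≠ 1)
    (hm1 : x ≠ -1) : x * x = -1 := by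
  have h : (x * x) * (x * x) = 1 := by
    rw [← h4]; simp only [pow_succ, pow_zero, one_mul, mul_assoc]
  rcases (sl2_mul_self_eq_one_iff h2 _).mp h with h | h
  · rcases (sl2_mul_self_eq_one_iff h2 _).mp h with h | h
    · exact absurd h h1
    · exact absurd h hm1
  · exact h

theorem sl2_trace_zero_of_sq (x : S) (hx : x * x = -1) :
    Matrix.trace (x : Matrix (Fin 2) (Fin 2) F) = 0 := by
  have hsq := sl2_sq x
  have hx' : (x : Matrix (Fin 2) (Fin 2) F) * (x : Matrix (Fin 2) (Fin 2) F) = -1 := by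
    rw [← Matrix.SpecialLinearGroup.coe_mul, hx]; simp
  rw [hx'] at hsq
  have h0 : ((x : Matrix (Fin 2) (Fin 2) F) 0 0 + (x : Matrix (Fin 2) (Fin 2) F) 1 1) •
      (x : Matrix (Fin 2) (Fin 2) F) = 0 := by
    have := hsq.symm
    rwa [sub_eq_neg_self] at this
  rw [Matrix.trace_fin_two]
  rcases smul_eq_zero.mp h0 with h | h
  · exact h
  · exfalso
    have := x.det_coe
    rw [h] at this
    simp at this

theorem sl2_neg_one_mul_neg_one : (-1 : S) * (-1 : S) = 1 := by simp

theorem sl2_pow_four_of_sq (x : S) (hx : x * x = -1) : x ^ 4 = 1 := by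
  have : x ^ 4 = (x * x) * (x * x) := by simp only [pow_succ, pow_zero, one_mul, mul_assoc]
  rw [this, hx, sl2_neg_one_mul_neg_one]

theorem sl2_orderOf_eq_four (h2 : (2 : F) ≠ 0) (x : S) (hx : x * x = -1) : orderOf x = 4 := by
  have := orderOf_eq_prime_pow (p := 2) (n := 1) (x := x) (by
    rw [pow_one, pow_two, hx]
    exact sl2_neg_one_ne_one h2) (by
    exact sl2_pow_four_of_sq x hx)
  simpa using this

theorem sl2_exists_gen_of_card_four (h2 : (2 : F) ≠ 0) (A : Subgroup S) (hA : Nat.card A = 4) :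
    ∃ x : S, x * x = -1 ∧ A = Subgroup.zpowers x := by
  have hfin : Finite A := Nat.finite_of_card_ne_zero (by omega)
  obtain ⟨x, hxA, hx1, hxm⟩ : ∃ x ∈ A, x ≠ 1 ∧ x ≠ -1 := by
    by_contra hcon
    push Not at hcon
    have hsub : (A : Set S) ⊆ {1, -1} := by
      intro x hx
      by_cases h : x = 1
      · left; exact h
      · right; exact hcon x hx h
    have h1 : (A : Set S).ncard ≤ ({1, -1} : Set S).ncard :=
      Set.ncard_le_ncard hsub (Set.toFinite _)
    have h3 : ({1, -1} : Set S).ncard ≤ 2 := by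
      refine (Set.ncard_insert_le _ _).trans ?_
      simp
    have h4 : (A : Set S).ncard = 4 := by
      rw [← hA]; rfl
    omega
  have h4 : x ^ 4 = 1 := by
    have := pow_card_eq_one' (x := (⟨x, hxA⟩ : A))
    rw [hA] at this
    exact congrArg Subtype.val this
  have hx := sl2_sq_neg_one_of_pow_four h2 x h4 hx1 hxm
  refine ⟨x, hx, ?_⟩
  symm
  apply Subgroup.eq_of_le_of_card_ge
  · rw [Subgroup.zpowers_le]; exact hxA
  · rw [Nat.card_zpowers, sl2_orderOf_eq_four h2 x hx, hA]

theorem sl2_conj_of_sq [Fintype F] (hodd : Fintype.card F % 2 = 1) (x y : S) (hx : x * x = -1)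
    (hy : y * y = -1) : ∃ P : S, y = P * x * P⁻¹ := by
  have h2 : (2 : F) ≠ 0 := Cfsg.Agent.Lib.Helper41.two_ne_zero_of_odd_card hodd
  apply sl2_conj_of_trace_eq hodd x y
  · rw [sl2_trace_zero_of_sq x hx]
    intro h
    apply h2
    have h4 : (2 : F) * 2 = 0 := by
      have : (0 : F) ^ 2 = 0 := by simp
      rw [this] at h
      rw [h]; norm_num
    exact mul_self_eq_zero.mp h4
  · rw [sl2_trace_zero_of_sq x hx, sl2_trace_zero_of_sq y hy]

theorem sl2_mem_zpowers_of_commute (h2 : (2 : F) ≠ 0) (x t : S) (hx : x * x = -1)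
    (htx : t * x = x * t) (ht : t ^ 4 = 1) : t ∈ Subgroup.zpowers x := by
  by_cases h1 : t = 1
  · rw [h1]; exact one_mem _
  by_cases hm1 : t = -1
  · rw [hm1, ← hx, ← pow_two]
    exact Subgroup.npow_mem_zpowers x 2
  have htt := sl2_sq_neg_one_of_pow_four h2 t ht h1 hm1
  have hc : x⁻¹ * t = t * x⁻¹ := by
    have : Commute t x := htx
    exact (this.inv_right).eq.symm
  have hu : (t * x⁻¹) * (t * x⁻¹) = 1 := by
    calc (t * x⁻¹) * (t * x⁻¹) = t * (x⁻¹ * t) * x⁻¹ := by group
      _ = t * (t * x⁻¹) * x⁻¹ := by rw [hc]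
      _ = (t * t) * (x * x)⁻¹ := by group
      _ = 1 := by rw [htt, hx, mul_inv_cancel]
  rcases (sl2_mul_self_eq_one_iff h2 _).mp hu with h | h
  · have : t = x := by
      rw [mul_inv_eq_one] at h; exact h
    rw [this]; exact Subgroup.mem_zpowers x
  · have : t = x ^ 3 := by
      rw [mul_inv_eq_iff_eq_mul] at h
      rw [h, ← hx]; simp only [pow_succ, pow_zero, one_mul, mul_assoc]
    rw [this]; exact Subgroup.npow_mem_zpowers x 3

theorem le_normalizer_of_conj_mem {G : Type*} [Group G] (N H : Subgroup G)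
    (h : ∀ g ∈ N, ∀ k ∈ H, g * k * g⁻¹ ∈ H) : N ≤ Subgroup.normalizer (H : Set G) := by
  intro g hg
  rw [Subgroup.mem_normalizer_iff]
  intro k
  constructor
  · exact h g hg k
  · intro hk
    have := h g⁻¹ (N.inv_mem hg) _ hk
    simpa [mul_assoc] using this

theorem sl2_normalizer_zpowers (h2 : (2 : F) ≠ 0) (x : S) (hx : x * x = -1) :
    Subgroup.normalizer ((Subgroup.zpowers x : Subgroup S) : Set S)
      = Subgroup.normalizer ((Subgroup.centralizer ({x} : Set S) : Subgroup S) : Set S) := by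
  apply le_antisymm
  · apply le_normalizer_of_conj_mem
    intro g hg t ht
    rw [Subgroup.mem_centralizer_singleton_iff] at ht ⊢
    have hg' : g⁻¹ * x * g⁻¹⁻¹ ∈ Subgroup.zpowers x :=
      (Subgroup.mem_normalizer_iff.mp (Subgroup.inv_mem _ hg) x).mp (Subgroup.mem_zpowers x)
    rw [inv_inv] at hg'
    obtain ⟨k, hk⟩ := Subgroup.mem_zpowers_iff.mp hg'
    have hcomm : t * (g⁻¹ * x * g) = (g⁻¹ * x * g) * t := by
      rw [← hk]
      have : Commute t x := ht
      exact (this.zpow_right k).eq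
    calc g * t * g⁻¹ * x = g * (t * (g⁻¹ * x * g)) * g⁻¹ := by group
      _ = g * ((g⁻¹ * x * g) * t) * g⁻¹ := by rw [hcomm]
      _ = x * (g * t * g⁻¹) := by group
  · apply le_normalizer_of_conj_mem
    intro g hg a ha
    have haC : a ∈ Subgroup.centralizer ({x} : Set S) := by
      rw [Subgroup.mem_centralizer_singleton_iff]
      obtain ⟨k, rfl⟩ := Subgroup.mem_zpowers_iff.mp ha
      exact ((Commute.refl x).zpow_left k).eq
    have h1 := (Subgroup.mem_normalizer_iff.mp hg a).mp haC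
    rw [Subgroup.mem_centralizer_singleton_iff] at h1
    apply sl2_mem_zpowers_of_commute h2 x _ hx h1
    rw [conj_pow]
    obtain ⟨k, rfl⟩ := Subgroup.mem_zpowers_iff.mp ha
    have : (x ^ k) ^ 4 = 1 := by
      rw [← zpow_natCast, ← zpow_mul, mul_comm, zpow_mul, zpow_natCast, sl2_pow_four_of_sq x hx,
        one_zpow]
    rw [this]; group

end Cfsg.Agent.Lib.Helper14
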