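import Mathlib
import Cfsg.Agent.Lib.Helper14.SL2Four
import Cfsg.Agent.Lib.Helper41.PSL2Trace
import Cfsg.Agent.Lib.Helper41.SL2Conj

/-! Involutions of `PSL₂(F)` and their centralisers, odd characteristic. -/

set_option autoImplicit false

namespace Cfsg.Agent.Lib.Helper14

open Cfsg.Agent.Lib.Helper41

variable {F : Type*} [Field F]

local notation "S" => Matrix.SpecialLinearGroup (Fin 2) F
local notation "PS" => Matrix.ProjectiveSpecialLinearGroup (Fin 2) F

theorem sl2_ne_neg_self (h2 : (2 : F) ≠ 0) (Z : S) : Z ≠ -Z := by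
  intro h
  have h1 : (Z : Matrix (Fin 2) (Fin 2) F) = -(Z : Matrix (Fin 2) (Fin 2) F) := by
    conv_lhs => rw [h]
    simp
  have h3 : (2 : F) • (Z : Matrix (Fin 2) (Fin 2) F) = 0 := by
    rw [two_smul]
    nth_rewrite 1 [h1]
    simp
  rcases smul_eq_zero.mp h3 with h | h
  · exact h2 h
  · have := Z.det_coe
    rw [h] at this
    simp at this

theorem psl2_mk_eq_iff' (M N : S) :
    (QuotientGroup.mk M : PS) = QuotientGroup.mk N ↔ (N = M ∨ N = -M) := by
  rw [psl2_mk_eq_iff]
  constructor
  · rintro (h | h)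
    · left; exact Subtype.ext h
    · right; exact Subtype.ext (by rw [h]; simp)
  · rintro (h | h)
    · left; rw [h]
    · right; rw [h]; simp

theorem psl2_commute_iff (X Y : S) :
    (QuotientGroup.mk Y : PS) * QuotientGroup.mk X = QuotientGroup.mk X * QuotientGroup.mk Y ↔
      (Y * X = X * Y ∨ Y * X = -(X * Y)) := by
  rw [← QuotientGroup.mk_mul, ← QuotientGroup.mk_mul, psl2_mk_eq_iff']
  constructor
  · rintro (h | h)
    · left; exact h.symm
    · right; rw [h, neg_neg]
  · rintro (h | h)
    · left; exact h.symm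
    · right; rw [h, neg_neg]

theorem sl2_sq_of_anti (h2 : (2 : F) ≠ 0) (X Y : S) (h : Y * X = -(X * Y)) : Y * Y = -1 := by
  have hY : Y = -(X * Y * X⁻¹) := by
    rw [← neg_mul, ← h]; group
  have htr : Matrix.trace (Y : Matrix (Fin 2) (Fin 2) F) = 0 := by
    have h1 : Matrix.trace (Y : Matrix (Fin 2) (Fin 2) F)
        = - Matrix.trace (Y : Matrix (Fin 2) (Fin 2) F) := by
      conv_lhs => rw [hY]
      rw [Matrix.SpecialLinearGroup.coe_neg, Matrix.trace_neg, sl2_trace_conj]
    have h3 : (2 : F) * Matrix.trace (Y : Matrix (Fin 2) (Fin 2) F) = 0 := by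
      linear_combination h1
    exact (mul_eq_zero.mp h3).resolve_left h2
  apply Subtype.ext
  rw [Matrix.SpecialLinearGroup.coe_mul, ← pow_two, sl2_sq_of_trace_zero Y htr]
  simp

theorem sl2_eq_or_eq_neg_of_commute (h2 : (2 : F) ≠ 0) (x t : S) (hx : x * x = -1)
    (ht : t * t = -1) (htx : t * x = x * t) : t = x ∨ t = -x := by
  have hc : x⁻¹ * t = t * x⁻¹ := by
    have : Commute t x := htx
    exact (this.inv_right).eq.symm
  have hu : (t * x⁻¹) * (t * x⁻¹) = 1 := by
    calc (t * x⁻¹) * (t * x⁻¹) = t * (x⁻¹ * t) * x⁻¹ := by group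
      _ = t * (t * x⁻¹) * x⁻¹ := by rw [hc]
      _ = (t * t) * (x * x)⁻¹ := by group
      _ = 1 := by rw [ht, hx, mul_inv_cancel]
  rcases (sl2_mul_self_eq_one_iff h2 _).mp hu with h | h
  · left
    rw [mul_inv_eq_one] at h; exact h
  · right
    rw [mul_inv_eq_iff_eq_mul] at h
    rw [h]; simp

theorem psl2_orderOf_two_iff (h2 : (2 : F) ≠ 0) (Z : S) :
    orderOf (QuotientGroup.mk Z : PS) = 2 ↔ Z * Z = -1 := by
  constructor
  · intro hZ
    have h1 : (QuotientGroup.mk Z : PS) ^ 2 = 1 := by
      have := pow_orderOf_eq_one (QuotientGroup.mk Z : PS)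
      rwa [hZ] at this
    have h3 : (QuotientGroup.mk Z : PS) ≠ 1 := by
      intro h
      rw [h, orderOf_one] at hZ
      omega
    rw [psl2_pow_eq_one_iff] at h1
    rw [psl2_mk_ne_one_iff] at h3
    rcases h1 with h1 | h1
    · exfalso
      apply h3
      have : Z * Z = 1 := by
        apply Subtype.ext
        rw [Matrix.SpecialLinearGroup.coe_mul, ← pow_two, h1]; simp
      rcases (sl2_mul_self_eq_one_iff h2 Z).mp this with h | h
      · left; rw [h]; simp
      · right; rw [h]; simp
    · apply Subtype.ext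
      rw [Matrix.SpecialLinearGroup.coe_mul, ← pow_two, h1]; simp
  · intro hZ
    apply orderOf_eq_prime
    · rw [psl2_pow_eq_one_iff]
      right
      rw [pow_two, ← Matrix.SpecialLinearGroup.coe_mul, hZ]; simp
    · rw [psl2_mk_ne_one_iff]
      rintro (h | h)
      · have : Z = 1 := Subtype.ext (by rw [h]; simp)
        rw [this, one_mul] at hZ
        exact sl2_neg_one_ne_one h2 hZ.symm
      · have : Z = -1 := Subtype.ext (by rw [h]; simp)
        rw [this] at hZ
        simp only [mul_neg, mul_one, neg_neg] at hZ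
        exact sl2_neg_one_ne_one h2 hZ.symm

/-- The involutions `≠ t` commuting with the involution `t = π X` are the images of the elements
anticommuting with `X`. -/
theorem psl2_invol_commute_iff (h2 : (2 : F) ≠ 0) (X Y : S) (hX : X * X = -1) :
    (orderOf (QuotientGroup.mk Y : PS) = 2 ∧ (QuotientGroup.mk Y : PS) ≠ QuotientGroup.mk X ∧
      (QuotientGroup.mk Y : PS) * QuotientGroup.mk X = QuotientGroup.mk X * QuotientGroup.mk Y) ↔
      Y * X = -(X * Y) := by
  constructor
  · rintro ⟨h1, h3, h4⟩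
    rw [psl2_orderOf_two_iff h2] at h1
    rcases (psl2_commute_iff X Y).mp h4 with h | h
    · exfalso
      apply h3
      rw [psl2_mk_eq_iff']
      rcases sl2_eq_or_eq_neg_of_commute h2 X Y hX h1 h with h | h
      · left; exact h.symm
      · right; rw [h, neg_neg]
    · exact h
  · intro h
    refine ⟨(psl2_orderOf_two_iff h2 Y).mpr (sl2_sq_of_anti h2 X Y h), ?_,
      (psl2_commute_iff X Y).mpr (Or.inr h)⟩
    intro hYX
    rw [psl2_mk_eq_iff'] at hYX
    rcases hYX with h' | h'
    · rw [h'] at h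
      exact sl2_ne_neg_self h2 _ h
    · rw [h'] at h
      simp only [mul_neg, neg_mul, neg_neg] at h
      exact sl2_ne_neg_self h2 _ h.symm

theorem psl2_centralizer_invol [Fintype F] (hodd : Fintype.card F % 2 = 1) (t : PS)
    (ht : orderOf t = 2) :
    2 * Nat.card {s : PS // orderOf s = 2 ∧ s ≠ t ∧ s * t = t * s}
      = Nat.card (Subgroup.centralizer ({t} : Set PS)) := by
  classical
  have h2 : (2 : F) ≠ 0 := Cfsg.Agent.Lib.Helper41.two_ne_zero_of_odd_card hodd
  obtain ⟨X, rfl⟩ := QuotientGroup.mk_surjective t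
  have hX := (psl2_orderOf_two_iff h2 X).mp ht
  obtain ⟨W, hW⟩ : ∃ W : S, W * X = -(X * W) := by
    obtain ⟨P, hP⟩ := sl2_conj_of_sq hodd X (-X) hX (by simpa using hX)
    refine ⟨P, ?_⟩
    have : P * X = -X * P := by rw [hP]; group
    rw [this, neg_mul]
  have hWW : (QuotientGroup.mk W : PS) * QuotientGroup.mk W = 1 := by
    have := (psl2_orderOf_two_iff h2 W).mpr (sl2_sq_of_anti h2 X W hW)
    have h3 := pow_orderOf_eq_one (QuotientGroup.mk W : PS)
    rwa [this, pow_two] at h3
  have hfin : Finite PS := inferInstance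
  let M : PS → Prop := fun s => orderOf s = 2 ∧ s ≠ QuotientGroup.mk X ∧
    s * QuotientGroup.mk X = QuotientGroup.mk X * s
  have hM : ∀ Y : S, M (QuotientGroup.mk Y) ↔ Y * X = -(X * Y) := fun Y =>
    psl2_invol_commute_iff h2 X Y hX
  have F2 : ∀ s : PS, M s → ¬ M (QuotientGroup.mk W * s) := by
    intro s hs
    obtain ⟨Y, rfl⟩ := QuotientGroup.mk_surjective s
    rw [hM] at hs
    rw [← QuotientGroup.mk_mul, hM]
    intro h
    have h3 : W * Y * X = X * (W * Y) := by
      rw [mul_assoc, hs, mul_neg, ← mul_assoc, hW, neg_mul, neg_neg, mul_assoc]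
    rw [h3] at h
    exact sl2_ne_neg_self h2 _ h
  have F3 : ∀ c : PS, c * QuotientGroup.mk X = QuotientGroup.mk X * c → ¬ M c →
      M (QuotientGroup.mk W * c) := by
    intro c hc hnM
    obtain ⟨Z, rfl⟩ := QuotientGroup.mk_surjective c
    rw [hM] at hnM
    rw [← QuotientGroup.mk_mul, hM]
    rcases (psl2_commute_iff X Z).mp hc with h | h
    · rw [mul_assoc, h, ← mul_assoc, hW, neg_mul, mul_assoc]
    · exact absurd h hnM
  have hWc : (QuotientGroup.mk W : PS) * QuotientGroup.mk X
      = QuotientGroup.mk X * QuotientGroup.mk W := ((hM W).mpr hW).2.2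
  let f : {s : PS // M s} ⊕ {s : PS // M s} →
      Subgroup.centralizer ({(QuotientGroup.mk X : PS)} : Set PS) := fun x =>
    match x with
    | Sum.inl s => ⟨s.1, Subgroup.mem_centralizer_singleton_iff.mpr s.2.2.2⟩
    | Sum.inr s => ⟨QuotientGroup.mk W * s.1, Subgroup.mem_centralizer_singleton_iff.mpr (by
        rw [mul_assoc, s.2.2.2, ← mul_assoc, hWc, mul_assoc])⟩
  have hf : Function.Bijective f := by
    constructor
    · rintro (⟨s, hs⟩ | ⟨s, hs⟩) (⟨s', hs'⟩ | ⟨s', hs'⟩) h
      · have := congrArg Subtype.val h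
        simp only [f] at this
        subst this
        rfl
      · exfalso
        have := congrArg Subtype.val h
        simp only [f] at this
        exact F2 s' hs' (this ▸ hs)
      · exfalso
        have := congrArg Subtype.val h
        simp only [f] at this
        exact F2 s hs (this ▸ hs')
      · have := congrArg Subtype.val h
        simp only [f] at this
        have := mul_left_cancel this
        subst this
        rfl
    · rintro ⟨c, hc⟩
      rw [Subgroup.mem_centralizer_singleton_iff] at hc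
      by_cases hMc : M c
      · exact ⟨Sum.inl ⟨c, hMc⟩, rfl⟩
      · refine ⟨Sum.inr ⟨QuotientGroup.mk W * c, F3 c hc hMc⟩, ?_⟩
        apply Subtype.ext
        simp only [f]
        rw [← mul_assoc, hWW, one_mul]
  rw [← Nat.card_eq_of_bijective f hf, Nat.card_sum, two_mul]

end Cfsg.Agent.Lib.Helper14
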