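import Mathlib
import Cfsg.Agent.Lib.Helper14.PSL2Invol

/-! `A₄` in `PSL₂(2^n)` forces a primitive cube root of unity. -/

set_option autoImplicit false

namespace Cfsg.Agent.Lib.Helper14

open Cfsg.Agent.Lib.Helper41

variable {F : Type*} [Field F]

local notation "S" => Matrix.SpecialLinearGroup (Fin 2) F
local notation "PS" => Matrix.ProjectiveSpecialLinearGroup (Fin 2) F

theorem sl2_neg_eq_self (h2 : (2 : F) = 0) (M : S) : -M = M := by
  apply Subtype.ext
  rw [Matrix.SpecialLinearGroup.coe_neg]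
  ext i j
  rw [Matrix.neg_apply]
  linear_combination (-(M : Matrix (Fin 2) (Fin 2) F) i j) * h2

theorem psl2_mk_injective_char_two (h2 : (2 : F) = 0) (M N : S)
    (h : (QuotientGroup.mk M : PS) = QuotientGroup.mk N) : M = N := by
  rcases (psl2_mk_eq_iff' M N).mp h with h | h
  · exact h.symm
  · rw [h, sl2_neg_eq_self h2]

theorem sl2_diag_eq_of_sq_one (h2 : (2 : F) = 0) (A : S) (hAA : A * A = 1) :
    (A : Matrix (Fin 2) (Fin 2) F) 1 1 = (A : Matrix (Fin 2) (Fin 2) F) 0 0 := by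
  have hsq := sl2_sq A
  have hAA' : (A : Matrix (Fin 2) (Fin 2) F) * (A : Matrix (Fin 2) (Fin 2) F) = 1 := by
    rw [← Matrix.SpecialLinearGroup.coe_mul, hAA]; simp
  rw [hAA'] at hsq
  have h0 : ((A : Matrix (Fin 2) (Fin 2) F) 0 0 + (A : Matrix (Fin 2) (Fin 2) F) 1 1) •
      (A : Matrix (Fin 2) (Fin 2) F) = 0 := by
    have h3 : ((A : Matrix (Fin 2) (Fin 2) F) 0 0 + (A : Matrix (Fin 2) (Fin 2) F) 1 1) •
      (A : Matrix (Fin 2) (Fin 2) F) = (2 : F) • (1 : Matrix (Fin 2) (Fin 2) F) := by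
      rw [two_smul]
      nth_rewrite 1 [hsq]
      abel
    rw [h3, h2, zero_smul]
  rcases smul_eq_zero.mp h0 with h | h
  · linear_combination h - (A : Matrix (Fin 2) (Fin 2) F) 0 0 * h2
  · exfalso
    have := A.det_coe
    rw [h] at this
    simp at this

theorem eq_of_sq_eq_char_two (h2 : (2 : F) = 0) {u v : F} (h : u ^ 2 = v ^ 2) : u = v := by
  have : (u - v) ^ 2 = 0 := by linear_combination h + (v ^ 2 - u * v) * h2
  have := pow_eq_zero_iff (two_ne_zero) |>.mp this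
  exact sub_eq_zero.mp this

/-- Two commuting involutions of `SL₂` in characteristic two: `B + 1 = c (A + 1)`. -/
theorem sl2_commuting_involutions_char_two (h2 : (2 : F) = 0) (A B : S) (hA1 : A ≠ 1)
    (hAA : A * A = 1) (hBB : B * B = 1) (hAB : A * B = B * A) :
    ∃ c : F, (B : Matrix (Fin 2) (Fin 2) F) + 1 = c • ((A : Matrix (Fin 2) (Fin 2) F) + 1) := by
  have hdA := sl2_diag_eq_of_sq_one h2 A hAA
  have hdB := sl2_diag_eq_of_sq_one h2 B hBB
  have hdetA := sl2_det A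
  have hdetB := sl2_det B
  have hcomm : (A : Matrix (Fin 2) (Fin 2) F) 0 1 * (B : Matrix (Fin 2) (Fin 2) F) 1 0
      = (B : Matrix (Fin 2) (Fin 2) F) 0 1 * (A : Matrix (Fin 2) (Fin 2) F) 1 0 := by
    have h := congrArg (fun M : S => (M : Matrix (Fin 2) (Fin 2) F) 0 0) hAB
    simp only [Matrix.SpecialLinearGroup.coe_mul, Matrix.mul_apply, Fin.sum_univ_two] at h
    linear_combination h
  have hA1' : ¬ ((A : Matrix (Fin 2) (Fin 2) F) 0 0 = 1 ∧ (A : Matrix (Fin 2) (Fin 2) F) 0 1 = 0 ∧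
      (A : Matrix (Fin 2) (Fin 2) F) 1 0 = 0) := by
    rintro ⟨h00, h01, h10⟩
    apply hA1
    apply Subtype.ext
    ext i j
    fin_cases i <;> fin_cases j <;> simp [h00, h01, h10, hdA]
  generalize (A : Matrix (Fin 2) (Fin 2) F) = a at *
  generalize (B : Matrix (Fin 2) (Fin 2) F) = b at *
  rw [hdA] at hdetA
  rw [hdB] at hdetB
  have hsA : (a 0 0 + 1) ^ 2 = a 0 1 * a 1 0 := by
    linear_combination hdetA + (a 0 0 + 1) * h2
  have hsB : (b 0 0 + 1) ^ 2 = b 0 1 * b 1 0 := by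
    linear_combination hdetB + (b 0 0 + 1) * h2
  by_cases hy : a 0 1 = 0
  · have hx : a 0 0 + 1 = 0 := by
      rw [hy, zero_mul] at hsA
      exact pow_eq_zero_iff (two_ne_zero) |>.mp hsA
    have hx1 : a 0 0 = 1 := by linear_combination hx - h2
    have hz : a 1 0 ≠ 0 := fun hz => hA1' ⟨hx1, hy, hz⟩
    have hy' : b 0 1 = 0 := by
      rw [hy, zero_mul] at hcomm
      exact (mul_eq_zero.mp hcomm.symm).resolve_right hz
    have hx' : b 0 0 + 1 = 0 := by
      rw [hy', zero_mul] at hsB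
      exact pow_eq_zero_iff (two_ne_zero) |>.mp hsB
    refine ⟨b 1 0 / a 1 0, ?_⟩
    ext i j
    fin_cases i <;> fin_cases j
    · simp [hx, hx']
    · simp [hy, hy']
    · simp; field_simp
    · simp [hdA, hdB, hx, hx']
  · have hz' : b 1 0 = b 0 1 / a 0 1 * a 1 0 := by
      field_simp
      linear_combination hcomm
    have hx' : b 0 0 + 1 = b 0 1 / a 0 1 * (a 0 0 + 1) := by
      apply eq_of_sq_eq_char_two h2
      rw [mul_pow, hsA, hsB]
      nth_rewrite 1 [hz']
      field_simp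
    refine ⟨b 0 1 / a 0 1, ?_⟩
    ext i j
    fin_cases i <;> fin_cases j
    · simpa using hx'
    · simp; field_simp
    · simpa using hz'
    · simpa [hdA, hdB] using hx'

theorem exists_cube_root_of_alt_four (h2 : (2 : F) = 0) (A B U : S) (hA1 : A ≠ 1)
    (hAA : A * A = 1) (hBB : B * B = 1) (hAB : A * B = B * A) (hUA : U * A = B * U)
    (hUB : U * B = A * B * U) : ∃ c : F, c ^ 2 + c + 1 = 0 := by
  obtain ⟨c, hc⟩ := sl2_commuting_involutions_char_two h2 A B hA1 hAA hBB hAB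
  refine ⟨c, ?_⟩
  have hAA' : (A : Matrix (Fin 2) (Fin 2) F) * (A : Matrix (Fin 2) (Fin 2) F) = 1 := by
    rw [← Matrix.SpecialLinearGroup.coe_mul, hAA]; simp
  have hUA' : (U : Matrix (Fin 2) (Fin 2) F) * (A : Matrix (Fin 2) (Fin 2) F)
      = (B : Matrix (Fin 2) (Fin 2) F) * (U : Matrix (Fin 2) (Fin 2) F) := by
    rw [← Matrix.SpecialLinearGroup.coe_mul, hUA]; simp
  have hUB' : (U : Matrix (Fin 2) (Fin 2) F) * (B : Matrix (Fin 2) (Fin 2) F)
      = (A : Matrix (Fin 2) (Fin 2) F) * (B : Matrix (Fin 2) (Fin 2) F)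
        * (U : Matrix (Fin 2) (Fin 2) F) := by
    rw [← Matrix.SpecialLinearGroup.coe_mul, hUB]; simp
  have hUinv : (U : Matrix (Fin 2) (Fin 2) F) * ((U⁻¹ : S) : Matrix (Fin 2) (Fin 2) F) = 1 :=
    sl2_coe_mul_inv U
  have hAne : (A : Matrix (Fin 2) (Fin 2) F) + 1 ≠ 0 := by
    intro h
    apply hA1
    apply Subtype.ext
    have h3 : (A : Matrix (Fin 2) (Fin 2) F) = -1 := eq_neg_of_add_eq_zero_left h
    have h4 : (-1 : S) = 1 := sl2_neg_eq_self h2 1
    rw [h3, ← h4]; simp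
  generalize ((U⁻¹ : S) : Matrix (Fin 2) (Fin 2) F) = u' at *
  generalize (A : Matrix (Fin 2) (Fin 2) F) = a at *
  generalize (B : Matrix (Fin 2) (Fin 2) F) = b at *
  generalize (U : Matrix (Fin 2) (Fin 2) F) = u at *
  have h2M : (1 : Matrix (Fin 2) (Fin 2) F) + 1 = 0 := by
    have : (1 : Matrix (Fin 2) (Fin 2) F) + 1 = (2 : F) • 1 := by rw [two_smul]
    rw [this, h2, zero_smul]
  have h2a : a + a = 0 := by
    have : a + a = (2 : F) • a := by rw [two_smul]
    rw [this, h2, zero_smul]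
  -- `N_A ^ 2 = 0`
  have hNN : (a + 1) * (a + 1) = 0 := by
    have : (a + 1) * (a + 1) = a * a + (a + a) + 1 := by noncomm_ring
    rw [this, hAA', h2a, add_zero, h2M]
  -- `u N_A = c N_A u`
  have e1 : u * (a + 1) = c • ((a + 1) * u) := by
    rw [mul_add, mul_one, hUA', ← smul_mul_assoc, ← hc, add_mul, one_mul]
  -- `a b + 1 = (1 + c) N_A`
  have e2 : a * b + 1 = (1 + c) • (a + 1) := by
    have hb : b = c • (a + 1) - 1 := by rw [← hc]; abel
    have : a * b + 1 = (a + 1) * (b + 1) - (a + 1) - (b + 1) + (1 + 1) := by noncomm_ring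
    rw [this, hc, mul_smul_comm, hNN, smul_zero, h2M, add_smul, one_smul]
    have h5 : ∀ X : Matrix (Fin 2) (Fin 2) F, -X = X := by
      intro X
      have : X + X = (2 : F) • X := by rw [two_smul]
      rw [h2, zero_smul] at this
      exact neg_eq_of_add_eq_zero_left this
    rw [zero_sub, add_zero, sub_eq_add_neg, h5, h5]
  -- two expressions for `u N_B`
  have e3 : u * (b + 1) = (c * c) • ((a + 1) * u) := by
    rw [hc, mul_smul_comm, e1, smul_smul]
  have e4 : u * (b + 1) = (1 + c) • ((a + 1) * u) := by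
    rw [mul_add, mul_one, hUB', ← smul_mul_assoc, ← e2, add_mul, one_mul]
  have e5 : (c * c - (1 + c)) • ((a + 1) * u) = 0 := by
    rw [sub_smul, ← e3, ← e4, sub_self]
  rcases smul_eq_zero.mp e5 with h | h
  · linear_combination h + (1 + c) * h2
  · exfalso
    apply hAne
    have : a + 1 = ((a + 1) * u) * u' := by rw [mul_assoc, hUinv, mul_one]
    rw [this, h, zero_mul]

/-- No root of `c² + c + 1` in the field with `2^n` elements, `n` odd. -/
theorem no_cube_root_of_odd [Fintype F] (h2 : (2 : F) = 0) {n : ℕ} (hF : Fintype.card F = 2 ^ n)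
    (hn : Odd n) (c : F) : c ^ 2 + c + 1 ≠ 0 := by
  intro hc
  have hc0 : c ≠ 0 := by
    rintro rfl
    simp at hc
  have hc3 : c ^ 3 = 1 := by linear_combination (c - 1) * hc
  have hc1 : c ≠ 1 := by
    rintro rfl
    have : (1 : F) = 0 := by linear_combination hc - h2
    exact one_ne_zero this
  have hord : orderOf c = 3 := orderOf_eq_prime hc3 hc1
  have hdvd : 3 ∣ 2 ^ n - 1 := by
    rw [← hord, ← hF]
    exact orderOf_dvd_of_pow_eq_one (FiniteField.pow_card_sub_one_eq_one c hc0)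
  obtain ⟨k, rfl⟩ := hn
  have h4 : 2 ^ (2 * k + 1) % 3 = 2 := by
    rw [pow_succ, pow_mul, Nat.mul_mod, Nat.pow_mod]
    norm_num
  have hpos : 1 ≤ 2 ^ (2 * k + 1) := Nat.one_le_two_pow
  generalize 2 ^ (2 * k + 1) = N at *
  omega

end Cfsg.Agent.Lib.Helper14
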