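import Mathlib
import Cfsg.Agent.Lib.Helper14.PSL2Invol
import Cfsg.Agent.Lib.Helper14.KleinCount

/-! Four-groups of `PSL₂(F)` are self-centralising (odd characteristic). -/

set_option autoImplicit false

namespace Cfsg.Agent.Lib.Helper14

open Cfsg.Agent.Lib.Helper41

variable {F : Type*} [Field F]

local notation "S" => Matrix.SpecialLinearGroup (Fin 2) F
local notation "PS" => Matrix.ProjectiveSpecialLinearGroup (Fin 2) F

theorem sl2_scalar_of_commute (h2 : (2 : F) ≠ 0) (X Y Z : S) (hY : Y * Y = -1)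
    (hYX : Y * X = -(X * Y)) (h1 : Z * X = X * Z) (h3 : Z * Y = Y * Z) : Z = 1 ∨ Z = -1 := by
  have hanti : (Z * Y) * X = -(X * (Z * Y)) := by
    calc (Z * Y) * X = Z * (Y * X) := by rw [mul_assoc]
      _ = -((Z * X) * Y) := by rw [hYX, mul_neg, mul_assoc]
      _ = -(X * (Z * Y)) := by rw [h1, mul_assoc]
  have hsq := sl2_sq_of_anti h2 X (Z * Y) hanti
  have h4 : (Z * Y) * (Z * Y) = -(Z * Z) := by
    calc (Z * Y) * (Z * Y) = Z * (Y * Z) * Y := by simp only [mul_assoc]
      _ = Z * (Z * Y) * Y := by rw [h3]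
      _ = (Z * Z) * (Y * Y) := by simp only [mul_assoc]
      _ = -(Z * Z) := by rw [hY]; simp
  rw [h4, neg_inj] at hsq
  exact (sl2_mul_self_eq_one_iff h2 Z).mp hsq

theorem psl2_mk_eq_one_of (Z : S) (h : Z = 1 ∨ Z = -1) : (QuotientGroup.mk Z : PS) = 1 := by
  rw [QuotientGroup.eq_one_iff, sl2_mem_center_iff]
  rcases h with h | h
  · left; rw [h]; simp
  · right; rw [h]; simp

theorem psl2_centralizer_klein (h2 : (2 : F) ≠ 0) (V : Subgroup PS) (hV : IsKleinFour V) :
    Subgroup.centralizer (V : Set PS) = V := by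
  have hfin : Finite V := IsKleinFour.instFinite
  obtain ⟨t, htV, ht1, -⟩ := Cfsg.Agent.Lib.Helper9.exists_mem_ne_one_ne (U := V)
    (by rw [hV.card_four]; norm_num) 1
  obtain ⟨s, hsV, hs1, hst⟩ := Cfsg.Agent.Lib.Helper9.exists_mem_ne_one_ne (U := V)
    (by rw [hV.card_four]; norm_num) t
  apply le_antisymm
  · intro g hg
    have hgt : g * t = t * g := (hg t htV).symm
    have hgs : g * s = s * g := (hg s hsV).symm
    have hto : orderOf t = 2 :=
      orderOf_two_iff.mpr ⟨ht1, Cfsg.Agent.Lib.Helper9.IsKleinFour.sq_eq_one hV htV⟩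
    have hso : orderOf s = 2 :=
      orderOf_two_iff.mpr ⟨hs1, Cfsg.Agent.Lib.Helper9.IsKleinFour.sq_eq_one hV hsV⟩
    have hcomm : s * t = t * s := Cfsg.Agent.Lib.Helper9.IsKleinFour.comm hV hsV htV
    obtain ⟨X, rfl⟩ := QuotientGroup.mk_surjective t
    obtain ⟨Y, rfl⟩ := QuotientGroup.mk_surjective s
    obtain ⟨Z, rfl⟩ := QuotientGroup.mk_surjective g
    have hX := (psl2_orderOf_two_iff h2 X).mp hto
    have hY := (psl2_orderOf_two_iff h2 Y).mp hso
    have hYX : Y * X = -(X * Y) := (psl2_invol_commute_iff h2 X Y hX).mp ⟨hso, hst, hcomm⟩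
    have hXY : X * Y = -(Y * X) := by rw [hYX, neg_neg]
    rcases (psl2_commute_iff X Z).mp hgt with c1 | a1 <;>
      rcases (psl2_commute_iff Y Z).mp hgs with c2 | a2
    · rw [psl2_mk_eq_one_of Z (sl2_scalar_of_commute h2 X Y Z hY hYX c1 c2)]
      exact V.one_mem
    · have e1 : (Z * X) * X = X * (Z * X) := by rw [c1, mul_assoc, c1]
      have e2 : (Z * X) * Y = Y * (Z * X) := by
        calc (Z * X) * Y = Z * (X * Y) := by rw [mul_assoc]
          _ = -((Z * Y) * X) := by rw [hXY, mul_neg, mul_assoc]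
          _ = Y * (Z * X) := by rw [a2, neg_mul, neg_neg, mul_assoc]
      have := psl2_mk_eq_one_of _ (sl2_scalar_of_commute h2 X Y (Z * X) hY hYX e1 e2)
      rw [QuotientGroup.mk_mul, mul_eq_one_iff_eq_inv] at this
      rw [this]
      exact V.inv_mem htV
    · have e1 : (Z * Y) * X = X * (Z * Y) := by
        calc (Z * Y) * X = Z * (Y * X) := by rw [mul_assoc]
          _ = -((Z * X) * Y) := by rw [hYX, mul_neg, mul_assoc]
          _ = X * (Z * Y) := by rw [a1, neg_mul, neg_neg, mul_assoc]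
      have e2 : (Z * Y) * Y = Y * (Z * Y) := by rw [c2, mul_assoc, c2]
      have := psl2_mk_eq_one_of _ (sl2_scalar_of_commute h2 X Y (Z * Y) hY hYX e1 e2)
      rw [QuotientGroup.mk_mul, mul_eq_one_iff_eq_inv] at this
      rw [this]
      exact V.inv_mem hsV
    · have e1 : (Z * (X * Y)) * X = X * (Z * (X * Y)) := by
        calc (Z * (X * Y)) * X = (Z * X) * (Y * X) := by simp only [mul_assoc]
          _ = -((Z * X) * (X * Y)) := by rw [hYX, mul_neg]
          _ = X * (Z * (X * Y)) := by rw [a1, neg_mul, neg_neg, mul_assoc]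
      have e2 : (Z * (X * Y)) * Y = Y * (Z * (X * Y)) := by
        have a2' : Y * Z = -(Z * Y) := by rw [a2, neg_neg]
        calc (Z * (X * Y)) * Y = -(Z * (Y * X) * Y) := by rw [hXY, mul_neg, neg_mul]
          _ = -((Z * Y) * (X * Y)) := by simp only [mul_assoc]
          _ = (Y * Z) * (X * Y) := by rw [a2', neg_mul]
          _ = Y * (Z * (X * Y)) := by rw [mul_assoc]
      have := psl2_mk_eq_one_of _ (sl2_scalar_of_commute h2 X Y (Z * (X * Y)) hY hYX e1 e2)
      rw [QuotientGroup.mk_mul, mul_eq_one_iff_eq_inv] at this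
      rw [this]
      apply V.inv_mem
      rw [QuotientGroup.mk_mul]
      exact V.mul_mem htV hsV
  · intro g hg
    rw [Subgroup.mem_centralizer_iff]
    intro h hh
    exact Cfsg.Agent.Lib.Helper9.IsKleinFour.comm hV hh hg

end Cfsg.Agent.Lib.Helper14
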