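import Mathlib
import Cfsg.Agent.Lib.Helper14.PSL2Klein
import Cfsg.Agent.Lib.Helper14.KleinClasses
import Cfsg.Agent.Lib.Helper14.KleinNormalizer
import Cfsg.Agent.Lib.Helper5.LinearCard
import Cfsg.Agent.S0807

/-! `A₄` and `S₄` inside `PSL₂(q)`. -/

set_option autoImplicit false

namespace Cfsg.Agent.Lib.Helper14

open Cfsg.Agent.Lib.Helper41

variable {F : Type*} [Field F]

local notation "S" => Matrix.SpecialLinearGroup (Fin 2) F
local notation "PS" => Matrix.ProjectiveSpecialLinearGroup (Fin 2) F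

/-- In characteristic two `PSL₂` has no element of order four. -/
theorem psl2_char_two_sq_of_pow_four (h2 : (2 : F) = 0) (g : PS) (hg : g ^ 4 = 1) : g ^ 2 = 1 := by
  obtain ⟨Z, rfl⟩ := QuotientGroup.mk_surjective g
  rw [psl2_pow_eq_one_iff] at hg ⊢
  have hneg : (-1 : Matrix (Fin 2) (Fin 2) F) = 1 := by
    have h11 : (-1 : F) = 1 := by linear_combination -h2
    ext i j
    fin_cases i <;> fin_cases j <;> simp [h11]
  have h4 : (Z : Matrix (Fin 2) (Fin 2) F) ^ 4 = 1 := by
    rcases hg with h | h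
    · exact h
    · rw [h, hneg]
  have hsq := sl2_sq Z
  generalize (Z : Matrix (Fin 2) (Fin 2) F) 0 0 + (Z : Matrix (Fin 2) (Fin 2) F) 1 1 = t at hsq
  have hdet : ((Z : Matrix (Fin 2) (Fin 2) F) * (Z : Matrix (Fin 2) (Fin 2) F)).det = 1 := by
    rw [Matrix.det_mul, Z.det_coe, one_mul]
  generalize (Z : Matrix (Fin 2) (Fin 2) F) = M at *
  have h5 : M ^ 4 = (t * t) • (M * M) + 1 := by
    have : M ^ 4 = (M * M) * (M * M) := by simp only [pow_succ, pow_zero, one_mul, mul_assoc]
    rw [this]
    nth_rewrite 1 [hsq]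
    nth_rewrite 1 [hsq]
    have h6 : (t • M - 1) * (t • M - 1) = (t * t) • (M * M) - (2 * t) • M + 1 := by
      simp only [sub_mul, mul_sub, smul_mul_assoc, mul_smul_comm, one_mul, mul_one, smul_sub,
        smul_smul]
      rw [two_mul, add_smul]
      abel
    rw [h6, h2, zero_mul, zero_smul, sub_zero]
  rw [h5] at h4
  have h7 : (t * t) • (M * M) = 0 := by
    simpa using h4
  rcases smul_eq_zero.mp h7 with h | h
  · have ht : t = 0 := mul_self_eq_zero.mp h
    right
    rw [pow_two, hsq, ht]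
    simp
  · rw [h] at hdet
    simp at hdet

section odd

variable [Fintype F]

theorem two_mul_card_psl2 {q : ℕ} (hF : Fintype.card F = q) (hodd : Odd q) :
    2 * Nat.card PS = q * (q ^ 2 - 1) := by
  have := Cfsg.Agent.Lib.Helper5.card_PSL2 (F := F)
  rw [hF] at this
  have hg : Nat.gcd (q - 1) 2 = 2 := by
    obtain ⟨k, rfl⟩ := hodd
    simp
  rwa [hg] at this

theorem eight_dvd_card_psl2_iff {q : ℕ} (hF : Fintype.card F = q) (hodd : Odd q) :
    8 ∣ Nat.card PS ↔ q ^ 2 % 16 = 1 := by
  have hcard := two_mul_card_psl2 hF hodd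
  have hq1 : 1 ≤ q ^ 2 := Nat.one_le_pow _ _ (by rw [← hF]; exact Fintype.card_pos)
  have hq2 : q % 2 = 1 := Nat.odd_iff.mp hodd
  have hr : (q % 16 = 3 ∨ q % 16 = 5 ∨ q % 16 = 11 ∨ q % 16 = 13) ∨
      (q % 16 = 1 ∨ q % 16 = 7 ∨ q % 16 = 9 ∨ q % 16 = 15) := by omega
  rcases hr with hr | hr
  · have h1 : q ^ 2 % 16 = 9 := by
      rw [Nat.pow_mod]
      rcases hr with h | h | h | h <;> rw [h]
    have h3 : (q ^ 2 - 1) % 16 = 8 := by omega
    have h4 : (q * (q ^ 2 - 1)) % 16 = 8 := by
      rw [Nat.mul_mod, h3]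
      rcases hr with h | h | h | h <;> rw [h]
    constructor
    · intro h; omega
    · intro h; omega
  · have h1 : q ^ 2 % 16 = 1 := by
      rw [Nat.pow_mod]
      rcases hr with h | h | h | h <;> rw [h]
    have h3 : (q ^ 2 - 1) % 16 = 0 := by omega
    have h4 : (q * (q ^ 2 - 1)) % 16 = 0 := by
      rw [Nat.mul_mod, h3]
      simp
    constructor
    · intro _; exact h1
    · intro _; omega

theorem exists_klein_psl2 {q : ℕ} (hF : Fintype.card F = q) (hodd : Odd q) :
    ∃ V : Subgroup PS, IsKleinFour V := by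
  have hcount := Cfsg.Agent.S0807.result hF hodd
  have hpos : 0 < Nat.card PS := Nat.card_pos
  have : 0 < Nat.card {V : Subgroup PS // IsKleinFour V} := by omega
  obtain ⟨V⟩ := (Nat.card_pos_iff.mp this).1
  exact ⟨V.1, V.2⟩

/-- The normaliser of a four-group has order `24` or `12`. -/
theorem card_normalizer_klein_psl2 {q : ℕ} (hF : Fintype.card F = q) (hodd : Odd q)
    (V : Subgroup PS) (hV : IsKleinFour V) :
    (q ^ 2 % 16 = 1 → Nat.card (Subgroup.normalizer (V : Set PS)) = 24) ∧
    (q ^ 2 % 16 ≠ 1 → Nat.card (Subgroup.normalizer (V : Set PS)) = 12) := by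
  have hodd' : Fintype.card F % 2 = 1 := by rw [hF]; exact Nat.odd_iff.mp hodd
  have h2 : (2 : F) ≠ 0 := Cfsg.Agent.Lib.Helper41.two_ne_zero_of_odd_card hodd'
  have hcount := Cfsg.Agent.S0807.result hF hodd
  constructor
  · intro hq
    exact card_normalizer_klein hcount ((eight_dvd_card_psl2_iff hF hodd).mpr hq) V hV
      (psl2_centralizer_klein h2 V hV)
  · intro hq
    have h8 : ¬ 8 ∣ Nat.card PS := fun h => hq ((eight_dvd_card_psl2_iff hF hodd).mp h)
    -- `V` is a Sylow subgroup, so every four-group is conjugate to it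
    have hall : {W : Subgroup PS | IsKleinFour W} ⊆ conjOrbit V := by
      intro W hW
      have : Fact (Nat.Prime 2) := ⟨Nat.prime_two⟩
      have key : ∀ U : Subgroup PS, Nat.card U = 4 → ∃ P : Sylow 2 PS, (P : Subgroup PS) = U := by
        intro U hU
        obtain ⟨P, hP⟩ := (IsPGroup.of_card (p := 2) (n := 2)
          (by rw [hU]; norm_num)).exists_le_sylow
        refine ⟨P, ?_⟩
        symm
        apply Subgroup.eq_of_le_of_card_ge hP
        obtain ⟨n, hn⟩ := P.2.exists_card_eq
        have hdvd : Nat.card (P : Subgroup PS) ∣ Nat.card PS := Subgroup.card_subgroup_dvd_card _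
        rw [hU, hn]
        rw [hn] at hdvd
        by_contra hlt
        push Not at hlt
        have hn3 : 3 ≤ n := by
          by_contra h
          push Not at h
          interval_cases n <;> omega
        exact h8 ((pow_dvd_pow 2 hn3).trans hdvd)
      obtain ⟨P, hP⟩ := key V hV.card_four
      have hW' : IsKleinFour W := hW
      obtain ⟨Q, hQ⟩ := key W hW'.card_four
      obtain ⟨g, hg⟩ := MulAction.exists_smul_eq PS P Q
      refine ⟨g, ?_⟩
      rw [← hP, ← hQ, ← hg]
      rfl
    have hsub : conjOrbit V ⊆ {W : Subgroup PS | IsKleinFour W} := by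
      rintro W ⟨g, rfl⟩
      exact isKleinFour_map_conj hV g
    have heq : conjOrbit V = {W : Subgroup PS | IsKleinFour W} := Set.Subset.antisymm hsub hall
    have h1 : (conjOrbit V).ncard = Nat.card {W : Subgroup PS // IsKleinFour W} := by
      rw [heq]; rfl
    rw [ncard_conjOrbit] at h1
    have hmul := Subgroup.card_mul_index (Subgroup.normalizer (V : Set PS))
    rw [h1, ← hcount] at hmul
    have hpos : 0 < Nat.card {W : Subgroup PS // IsKleinFour W} := by
      have : 0 < Nat.card PS := Nat.card_pos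
      omega
    exact Nat.eq_of_mul_eq_mul_right hpos hmul

end odd

end Cfsg.Agent.Lib.Helper14
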