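import Mathlib
import Cfsg.Agent.Lib.Helper14.Singular

set_option autoImplicit false

namespace Cfsg.Agent.Lib.Helper14

open Module LinearMap

variable {F V : Type*} [Field F] [AddCommGroup V] [Module F V] [FiniteDimensional F V]

theorem finrank_sup_span_singleton' (D : Submodule F V) (w : V) (hw : w ∉ D) :
    finrank F ↥(D ⊔ Submodule.span F {w}) = finrank F D + 1 := by
  have h0 : w ≠ 0 := by
    rintro rfl
    exact hw D.zero_mem
  have hdisj : Disjoint D (Submodule.span F {w}) := by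
    rw [Submodule.disjoint_span_singleton' h0]
    exact hw
  have := Submodule.finrank_sup_add_finrank_inf_eq D (Submodule.span F {w})
  rw [hdisj.eq_bot, finrank_bot, finrank_span_singleton h0] at this
  omega

theorem eq_sup_span_of_finrank (D W : Submodule F V) (w : V) (hDW : D ≤ W) (hwW : w ∈ W)
    (hw : w ∉ D) (hd : finrank F W = finrank F D + 1) : D ⊔ Submodule.span F {w} = W := by
  apply Submodule.eq_of_le_of_finrank_eq
  · exact sup_le hDW ((Submodule.span_singleton_le_iff_mem w W).mpr hwW)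
  · rw [finrank_sup_span_singleton' D w hw, hd]

/-- In a hyperbolic space of dimension `2m`, a totally singular subspace of dimension `m - 1` lies
in exactly two totally singular subspaces of dimension `m`. -/
theorem TS.exactly_two {Q : QuadraticForm F V} (hQ : (QuadraticMap.polarBilin Q).Nondegenerate)
    {m : ℕ} (hV : finrank F V = 2 * m) {M D : Submodule F V} (hM : TS Q M)
    (hMd : finrank F M = m) (hD : TS Q D) (hDd : finrank F D + 1 = m) :
    ∃ W₁ W₂ : Submodule F V, W₁ ≠ W₂ ∧ (TS Q W₁ ∧ finrank F W₁ = m ∧ D ≤ W₁) ∧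
      (TS Q W₂ ∧ finrank F W₂ = m ∧ D ≤ W₂) ∧
      ∀ W : Submodule F V, TS Q W → finrank F W = m → D ≤ W → W = W₁ ∨ W = W₂ := by
  obtain ⟨hW₁, hW₁d, -⟩ := TS.key hQ hV hM hMd hD
  set W₁ := (M ⊓ perp Q D) ⊔ D with hW₁def
  have hDW₁ : D ≤ W₁ := le_sup_right
  have hperp : ∀ W : Submodule F V, TS Q W → D ≤ W → W ≤ perp Q D := fun W hW hDW =>
    hW.le_orthogonal.trans (LinearMap.BilinForm.orthogonal_le hDW)
  have hpd : finrank F (perp Q D) = m + 1 := by
    have : finrank F (perp Q D) = finrank F V - finrank F D :=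
      LinearMap.BilinForm.finrank_orthogonal hQ D
    omega
  -- choose w₁ and z
  have hlt₁ : D < W₁ := by
    refine lt_of_le_of_ne hDW₁ ?_
    intro h
    rw [← h] at hW₁d
    omega
  obtain ⟨w₁, hw₁W, hw₁D⟩ := SetLike.exists_of_lt hlt₁
  have hlt₂ : W₁ < perp Q D := by
    refine lt_of_le_of_ne (hperp W₁ hW₁ hDW₁) ?_
    intro h
    rw [← h] at hpd
    omega
  obtain ⟨z, hzP, hzW⟩ := SetLike.exists_of_lt hlt₂
  have hW₁eq : D ⊔ Submodule.span F {w₁} = W₁ :=
    eq_sup_span_of_finrank D W₁ w₁ hDW₁ hw₁W hw₁D (by omega)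
  have hPeq : W₁ ⊔ Submodule.span F {z} = perp Q D :=
    eq_sup_span_of_finrank W₁ (perp Q D) z (hperp W₁ hW₁ hDW₁) hzP hzW (by omega)
  have hDz : ∀ d ∈ D, QuadraticMap.polar ⇑Q d z = 0 := fun d hd => hzP d hd
  have hQw₁ : Q w₁ = 0 := hW₁ w₁ hw₁W
  -- β ≠ 0
  have hβ : QuadraticMap.polar ⇑Q w₁ z ≠ 0 := by
    intro h0
    apply hw₁D
    have : w₁ ∈ perp Q (perp Q D) := by
      intro y hy
      rw [← hPeq] at hy
      obtain ⟨x, hx, y', hy', rfl⟩ := Submodule.mem_sup.mp hy
      obtain ⟨c, rfl⟩ := Submodule.mem_span_singleton.mp hy'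
      show QuadraticMap.polar ⇑Q (x + c • z) w₁ = 0
      rw [QuadraticMap.polar_add_left, QuadraticMap.polar_smul_left, hW₁.polar hx hw₁W,
        QuadraticMap.polar_comm _ z w₁, h0]
      simp
    have h2 : perp Q (perp Q D) = D :=
      LinearMap.BilinForm.orthogonal_orthogonal hQ (polarBilin_isRefl Q) D
    rwa [h2] at this
  set β := QuadraticMap.polar ⇑Q w₁ z with hβdef
  set w₂ := z - (Q z / β) • w₁ with hw₂def
  have hzw₂ : z = w₂ + (Q z / β) • w₁ := by rw [hw₂def]; abel
  have hQw₂ : Q w₂ = 0 := by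
    have : Q w₂ = Q z + Q (-((Q z / β) • w₁)) + QuadraticMap.polar ⇑Q z (-((Q z / β) • w₁)) := by
      rw [hw₂def, sub_eq_add_neg, quadV_add]
    rw [this, QuadraticMap.map_neg, QuadraticMap.map_smul, hQw₁, QuadraticMap.polar_neg_right,
      QuadraticMap.polar_smul_right, QuadraticMap.polar_comm _ z w₁, ← hβdef]
    simp only [smul_eq_mul]
    field_simp
    ring
  have hw₂P : w₂ ∈ perp Q D :=
    (perp Q D).sub_mem hzP ((perp Q D).smul_mem _ (hperp W₁ hW₁ hDW₁ hw₁W))
  have hw₂W₁ : w₂ ∉ W₁ := by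
    intro h
    apply hzW
    rw [hzw₂]
    exact W₁.add_mem h (W₁.smul_mem _ hw₁W)
  have hw₂D : w₂ ∉ D := fun h => hw₂W₁ (hDW₁ h)
  have hW₂ : TS Q (D ⊔ Submodule.span F {w₂}) := by
    apply TS.sup hD (TS.span_singleton hQw₂)
    intro x hx y hy
    obtain ⟨c, rfl⟩ := Submodule.mem_span_singleton.mp hy
    rw [QuadraticMap.polar_smul_right]
    have : QuadraticMap.polar ⇑Q x w₂ = 0 := hw₂P x hx
    rw [this, smul_zero]
  have hW₂d : finrank F ↥(D ⊔ Submodule.span F {w₂}) = m := by
    rw [finrank_sup_span_singleton' D w₂ hw₂D, hDd]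
  refine ⟨W₁, D ⊔ Submodule.span F {w₂}, ?_, ⟨hW₁, hW₁d, hDW₁⟩, ⟨hW₂, hW₂d, le_sup_left⟩, ?_⟩
  · intro h
    apply hw₂W₁
    rw [h]
    exact Submodule.mem_sup_right (Submodule.mem_span_singleton_self w₂)
  · intro W hW hWd hDW
    have hlt : D < W := by
      refine lt_of_le_of_ne hDW ?_
      intro h
      rw [← h] at hWd
      omega
    obtain ⟨w, hwW, hwD⟩ := SetLike.exists_of_lt hlt
    have hWeq : D ⊔ Submodule.span F {w} = W :=
      eq_sup_span_of_finrank D W w hDW hwW hwD (by omega)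
    have hwP : w ∈ perp Q D := hperp W hW hDW hwW
    rw [← hPeq] at hwP
    obtain ⟨x, hx, y', hy', hxy⟩ := Submodule.mem_sup.mp hwP
    obtain ⟨b, rfl⟩ := Submodule.mem_span_singleton.mp hy'
    have hx' := hx
    rw [← hW₁eq] at hx'
    obtain ⟨d, hd, x', hx'', hdx⟩ := Submodule.mem_sup.mp hx'
    obtain ⟨a, rfl⟩ := Submodule.mem_span_singleton.mp hx''
    have hQw : Q w = 0 := hW w hwW
    have hcomp : b * (b * Q z + a * β) = 0 := by
      rw [← hxy, quadV_add, hW₁ x hx, QuadraticMap.map_smul, QuadraticMap.polar_smul_right, ← hdx,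
        QuadraticMap.polar_add_left, QuadraticMap.polar_smul_left, hDz d hd, ← hβdef] at hQw
      simp only [smul_eq_mul] at hQw
      linear_combination hQw
    rcases mul_eq_zero.mp hcomp with hb | hb
    · left
      have hwW₁ : w ∈ W₁ := by
        rw [← hxy, hb, zero_smul, add_zero]
        exact hx
      rw [← hWeq]
      exact eq_sup_span_of_finrank D W₁ w hDW₁ hwW₁ hwD (by omega)
    · right
      have ha : a = -(b * (Q z / β)) := by
        field_simp
        linear_combination hb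
      have hwW₂ : w ∈ D ⊔ Submodule.span F {w₂} := by
        have : w = d + b • w₂ := by
          rw [← hxy, ← hdx, ha, hw₂def]
          module
        rw [this]
        exact Submodule.add_mem_sup hd (Submodule.smul_mem _ _ (Submodule.mem_span_singleton_self w₂))
      rw [← hWeq]
      exact eq_sup_span_of_finrank D _ w le_sup_left hwW₂ hwD (by omega)

end Cfsg.Agent.Lib.Helper14
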