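import Mathlib
import Cfsg.Agent.Lib.Helper14.SingularTwo

set_option autoImplicit false

namespace Cfsg.Agent.Lib.Helper14

open Module LinearMap

variable {F V : Type*} [Field F] [AddCommGroup V] [Module F V] [FiniteDimensional F V]

/-- Adjacent maximal totally singular subspaces meet any third one in dimensions differing by
exactly one. -/
theorem TS.adjacent {Q : QuadraticForm F V} (hQ : (QuadraticMap.polarBilin Q).Nondegenerate)
    {m : ℕ} (hV : finrank F V = 2 * m) {W W' U : Submodule F V} (hW : TS Q W)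
    (hWd : finrank F W = m) (hW' : TS Q W') (hW'd : finrank F W' = m) (hne : W ≠ W')
    (hadj : finrank F ↥(W ⊓ W') + 1 = m) (hU : TS Q U) (hUd : finrank F U = m) :
    (finrank F ↥(U ⊓ W) = finrank F ↥(U ⊓ W') + 1) ∨
      (finrank F ↥(U ⊓ W') = finrank F ↥(U ⊓ W) + 1) := by
  set D := W ⊓ W' with hDdef
  have hD : TS Q D := hW.mono inf_le_left
  obtain ⟨hN, hNd, hNf⟩ := TS.key hQ hV hU hUd hD
  obtain ⟨W₁, W₂, -, -, -, hall⟩ := TS.exactly_two hQ hV hW hWd hD hadj
  have hperp : ∀ Y : Submodule F V, TS Q Y → D ≤ Y → Y ≤ perp Q D := fun Y hY hDY =>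
    hY.le_orthogonal.trans (LinearMap.BilinForm.orthogonal_le hDY)
  -- general argument
  have main : ∀ Y Y' : Submodule F V, TS Q Y → TS Q Y' → D ≤ Y → D ≤ Y' → Y ⊓ Y' = D →
      (U ⊓ perp Q D) ⊔ D = Y → finrank F ↥(U ⊓ Y) = finrank F ↥(U ⊓ Y') + 1 := by
    intro Y Y' hY hY' hDY hDY' hYY' hNY
    have h1 : U ⊓ Y = U ⊓ perp Q D := by
      apply le_antisymm
      · exact inf_le_inf_left U (hperp Y hY hDY)
      · refine le_inf inf_le_left ?_
        rw [← hNY]
        exact le_sup_left
    have h2 : U ⊓ Y' = U ⊓ D := by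
      apply le_antisymm
      · refine le_inf inf_le_left ?_
        rw [← hYY']
        refine le_inf ?_ inf_le_right
        have : U ⊓ Y' ≤ U ⊓ perp Q D := inf_le_inf_left U (hperp Y' hY' hDY')
        rw [← h1] at this
        exact this.trans inf_le_right
      · exact inf_le_inf_left U hDY'
    rw [h1, h2]
    omega
  have hNW := hall _ hN hNd le_sup_right
  have hWW := hall W hW hWd inf_le_left
  have hW'W := hall W' hW' hW'd inf_le_right
  have hcases : (U ⊓ perp Q D) ⊔ D = W ∨ (U ⊓ perp Q D) ⊔ D = W' := by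
    rcases hNW with h | h <;> rcases hWW with h' | h' <;> rcases hW'W with h'' | h''
    · left; rw [h, h']
    · left; rw [h, h']
    · right; rw [h, h'']
    · exact absurd (h'.trans h''.symm) hne
    · exact absurd (h'.trans h''.symm) hne
    · right; rw [h, h'']
    · left; rw [h, h']
    · left; rw [h, h']
  rcases hcases with h | h
  · left
    exact main W W' hW hW' inf_le_left inf_le_right rfl h
  · right
    exact main W' W hW' hW inf_le_right inf_le_left (inf_comm _ _) h

/-- The neighbour of a maximal totally singular subspace through a singular vector outside it. -/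
theorem TS.neighbour {Q : QuadraticForm F V} (hQ : (QuadraticMap.polarBilin Q).Nondegenerate)
    {m : ℕ} (hV : finrank F V = 2 * m) {W : Submodule F V} (hW : TS Q W)
    (hWd : finrank F W = m) (x : V) (hx : Q x = 0) (hxW : x ∉ W) :
    ∃ W' : Submodule F V, TS Q W' ∧ finrank F W' = m ∧ x ∈ W' ∧ W ≠ W' ∧
      finrank F ↥(W ⊓ W') + 1 = m ∧ W ⊓ perp Q (Submodule.span F {x}) ≤ W' := by
  have hD : TS Q (Submodule.span F {x}) := TS.span_singleton hx
  obtain ⟨hN, hNd, hNf⟩ := TS.key hQ hV hW hWd hD
  have hx0 : x ≠ 0 := by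
    rintro rfl
    exact hxW W.zero_mem
  have hdisj : W ⊓ Submodule.span F {x} = ⊥ := by
    have : Disjoint W (Submodule.span F {x}) := by
      rw [Submodule.disjoint_span_singleton' hx0]
      exact hxW
    exact this.eq_bot
  rw [hdisj, finrank_bot, finrank_span_singleton hx0] at hNf
  have hxN : x ∈ (W ⊓ perp Q (Submodule.span F {x})) ⊔ Submodule.span F {x} :=
    Submodule.mem_sup_right (Submodule.mem_span_singleton_self x)
  have hne : W ≠ (W ⊓ perp Q (Submodule.span F {x})) ⊔ Submodule.span F {x} := by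
    intro h
    apply hxW
    rw [h]
    exact hxN
  refine ⟨_, hN, hNd, hxN, hne, ?_, le_sup_left⟩
  have hlow : finrank F ↥(W ⊓ perp Q (Submodule.span F {x})) ≤
      finrank F ↥(W ⊓ ((W ⊓ perp Q (Submodule.span F {x})) ⊔ Submodule.span F {x})) :=
    Submodule.finrank_mono (le_inf inf_le_left le_sup_left)
  have hup : finrank F ↥(W ⊓ ((W ⊓ perp Q (Submodule.span F {x})) ⊔ Submodule.span F {x})) < m := by
    by_contra hcon
    push Not at hcon
    have h1 : W ⊓ ((W ⊓ perp Q (Submodule.span F {x})) ⊔ Submodule.span F {x}) = W := by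
      apply Submodule.eq_of_le_of_finrank_le inf_le_left
      rw [hWd]; exact hcon
    have h2 : W ≤ (W ⊓ perp Q (Submodule.span F {x})) ⊔ Submodule.span F {x} := inf_eq_left.mp h1
    exact hne (Submodule.eq_of_le_of_finrank_eq h2 (by rw [hWd, hNd]))
  omega

/-- The parity statement for three maximal totally singular subspaces. -/
theorem TS.parity {Q : QuadraticForm F V} (hQ : (QuadraticMap.polarBilin Q).Nondegenerate)
    {m : ℕ} (hV : finrank F V = 2 * m) (k : ℕ) :
    ∀ {W X U : Submodule F V}, TS Q W → finrank F W = m → TS Q X → finrank F X = m →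
      TS Q U → finrank F U = m → finrank F ↥(W ⊓ X) + k = m →
      Even (finrank F ↥(U ⊓ W) + finrank F ↥(U ⊓ X) + k) := by
  induction k with
  | zero =>
    intro W X U hW hWd hX hXd hU hUd hk
    have h1 : W ⊓ X = W := Submodule.eq_of_le_of_finrank_eq inf_le_left (by omega)
    have h2 : W ⊓ X = X := Submodule.eq_of_le_of_finrank_eq inf_le_right (by omega)
    have : W = X := h1.symm.trans h2
    subst this
    exact ⟨finrank F ↥(U ⊓ W), by ring⟩
  | succ k ih =>
    intro W X U hW hWd hX hXd hU hUd hk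
    -- pick x in X outside W
    have hnle : ¬ X ≤ W := by
      intro h
      have : W ⊓ X = X := inf_eq_right.mpr h
      rw [this] at hk
      omega
    obtain ⟨x, hxX, hxW⟩ := SetLike.not_le_iff_exists.mp hnle
    obtain ⟨W', hW', hW'd, hxW', hne, hadj, hle⟩ := TS.neighbour hQ hV hW hWd x (hX x hxX) hxW
    -- W' ⊓ X is bigger than W ⊓ X
    have hsub : W ⊓ X ≤ W' ⊓ X := by
      refine le_inf ?_ inf_le_right
      refine le_trans ?_ hle
      refine le_inf inf_le_left ?_
      intro y hy z hz
      obtain ⟨c, rfl⟩ := Submodule.mem_span_singleton.mp hz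
      show QuadraticMap.polar ⇑Q (c • x) y = 0
      rw [QuadraticMap.polar_smul_left, hX.polar hxX hy.2, smul_zero]
    have hlt : finrank F ↥(W ⊓ X) < finrank F ↥(W' ⊓ X) := by
      apply Submodule.finrank_lt_finrank_of_lt
      refine lt_of_le_of_ne hsub ?_
      intro h
      have : x ∈ W' ⊓ X := ⟨hxW', hxX⟩
      rw [← h] at this
      exact hxW this.1
    have hA := TS.adjacent hQ hV hW hWd hW' hW'd hne hadj hX hXd
    rw [inf_comm X W, inf_comm X W'] at hA
    have hk' : finrank F ↥(W' ⊓ X) + k = m := by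
      rcases hA with h | h <;> omega
    have hIH := ih hW' hW'd hX hXd hU hUd hk'
    have hB := TS.adjacent hQ hV hW hWd hW' hW'd hne hadj hU hUd
    rw [Nat.even_iff] at hIH ⊢
    rcases hB with h | h <;> omega

end Cfsg.Agent.Lib.Helper14
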