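import Mathlib
import Cfsg.Agent.Lib.Helper14.StdMinus

/-! Arithmetic form of the discriminant criteria. -/

set_option autoImplicit false

namespace Cfsg.Agent.Lib.Helper14

open Module LinearMap Cfsg.Agent.Lib.Helper44

theorem isSquare_neg_one_pow_iff_even {F : Type*} [Field F] [Fintype F] {q : ℕ}
    (hF : Fintype.card F = q) (hq : Odd q) (m : ℕ) :
    IsSquare ((-1 : F) ^ m) ↔ Even (m * (q - 1) / 2) := by
  obtain ⟨k, rfl⟩ := hq
  have h1 : m * (2 * k + 1 - 1) / 2 = m * k := by
    rw [Nat.add_sub_cancel, mul_left_comm, Nat.mul_div_cancel_left _ (by norm_num)]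
  rw [h1, Nat.even_mul]
  rcases Nat.even_or_odd m with hm | hm
  · rw [hm.neg_one_pow]
    simp [hm]
  · rw [hm.neg_one_pow, FiniteField.isSquare_neg_one_iff, hF]
    have : ¬ Even m := Nat.not_even_iff_odd.mpr hm
    simp only [this, false_or]
    rw [Nat.even_iff]
    omega

theorem gram_eq_toMatrix {F V : Type*} [Field F] [AddCommGroup V] [Module F V]
    (Q : QuadraticForm F V) (f : V → F) (hf : ⇑Q = f) {ι : Type*} [Fintype ι] [DecidableEq ι]
    (b : Basis ι F V) :
    HasDisc (QuadraticMap.polarBilin Q)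
      (Matrix.of (fun i j : ι => QuadraticMap.polar f (b i) (b j))).det := by
  subst hf
  have := hasDisc_of_basis (QuadraticMap.polarBilin Q) b
  convert this using 2
  ext i j
  simp [LinearMap.BilinForm.toMatrix_apply]

end Cfsg.Agent.Lib.Helper14
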