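import Mathlib
import Cfsg.Agent.Lib.Helper14.DiscQuad
import Cfsg.Agent.Lib.Helper14.DiscWitt
import Cfsg.Agent.Lib.Helper14.Singular
import Cfsg.Agent.Lib.Helper44.StdForms
import Cfsg.Agent.Lib.Helper44.Orth

/-! Witt decomposition of quadratic spaces over finite fields, all characteristics. -/

set_option autoImplicit false

namespace Cfsg.Agent.Lib.Helper14

open Module QuadraticMap Cfsg.Agent.Lib.Helper44

universe u v

section Basic

variable {F : Type u} [Field F] {V : Type v} [AddCommGroup V] [Module F V]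

/-- A system of hyperbolic pairs. -/
structure HypSys (Q : QuadraticForm F V) {I : Type*} [DecidableEq I] (e f : I → V) : Prop where
  Qe : ∀ i, Q (e i) = 0
  Qf : ∀ i, Q (f i) = 0
  ef : ∀ i j, polar Q (e i) (f j) = if i = j then 1 else 0
  ee : ∀ i j, polar Q (e i) (e j) = 0
  ff : ∀ i j, polar Q (f i) (f j) = 0

/-- Restriction of a quadratic form to a subspace. -/
abbrev resQ (Q : QuadraticForm F V) (W : Submodule F V) : QuadraticForm F W := Q.comp W.subtype

theorem resQ_apply (Q : QuadraticForm F V) (W : Submodule F V) (x : W) : resQ Q W x = Q x := rfl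

theorem resQ_polar (Q : QuadraticForm F V) (W : Submodule F V) (x y : W) :
    polar (resQ Q W) x y = polar Q (x : V) (y : V) := rfl

theorem polarBilin_resQ (Q : QuadraticForm F V) (W : Submodule F V) :
    polarBilin (resQ Q W) = LinearMap.BilinForm.restrict (polarBilin Q) W := by
  ext x y
  rfl

theorem exists_partner (Q : QuadraticForm F V) (hQ : (polarBilin Q).Nondegenerate) (u : V)
    (hu : u ≠ 0) (hQu : Q u = 0) : ∃ w, Q w = 0 ∧ polar Q u w = 1 := by
  obtain ⟨y, hy⟩ : ∃ y, polar Q u y ≠ 0 := by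
    by_contra hcon
    push Not at hcon
    exact hu (hQ.1 u hcon)
  obtain ⟨z, huz⟩ : ∃ z, polar Q u z = 1 :=
    ⟨(polar Q u y)⁻¹ • y, by rw [polar_smul_right, smul_eq_mul, inv_mul_cancel₀ hy]⟩
  refine ⟨z + (-(Q z)) • u, ?_, ?_⟩
  · rw [Q_add_smul, hQu, polar_comm, huz]
    ring
  · rw [polar_add_right, polar_smul_right, polar_self, hQu, huz]
    simp

theorem exists_not_mem_span_singleton [FiniteDimensional F V] (x : V) (W : Submodule F V)
    (hW : 2 ≤ finrank F W) : ∃ w ∈ W, w ∉ Submodule.span F {x} := by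
  by_contra hcon
  push Not at hcon
  have hle : W ≤ Submodule.span F {x} := fun w hw => hcon w hw
  have h1 := Submodule.finrank_mono hle
  have h2 : finrank F (Submodule.span F {x}) ≤ 1 := by
    have := finrank_span_le_card (R := F) ({x} : Set V)
    simpa using this
  omega

theorem exists_singular [Finite F] [FiniteDimensional F V] (Q : QuadraticForm F V)
    (hQ : (polarBilin Q).Nondegenerate) (hdim : 3 ≤ finrank F V) : ∃ u, u ≠ 0 ∧ Q u = 0 := by
  have : Fintype F := Fintype.ofFinite F
  by_cases h2 : (2 : F) = 0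
  · have hchar : CharP F 2 := CharTwo.of_one_ne_zero_of_two_eq_zero one_ne_zero h2
    obtain ⟨u, hu⟩ : ∃ u : V, u ≠ 0 := by
      apply (Module.finrank_pos_iff_exists_ne_zero (R := F)).mp
      omega
    by_cases hQu : Q u = 0
    · exact ⟨u, hu, hQu⟩
    have hker : 2 ≤ finrank F (LinearMap.ker (polarBilin Q u)) := by
      have h1 := LinearMap.finrank_range_add_finrank_ker (polarBilin Q u)
      have h3 : finrank F (LinearMap.range (polarBilin Q u)) ≤ 1 := by
        have := Submodule.finrank_le (LinearMap.range (polarBilin Q u))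
        simpa using this
      omega
    obtain ⟨w, hw, hwu⟩ := exists_not_mem_span_singleton u _ hker
    have hpol : polar Q u w = 0 := hw
    obtain ⟨s, hs⟩ := FiniteField.isSquare_of_char_two (ringChar.eq F 2) (Q w / Q u)
    refine ⟨w + s • u, ?_, ?_⟩
    · intro h
      apply hwu
      rw [Submodule.mem_span_singleton]
      refine ⟨-s, ?_⟩
      rw [neg_smul]
      exact (eq_neg_of_add_eq_zero_left h).symm
    · rw [Q_add_smul, polar_comm, hpol, ← hs, div_mul_cancel₀ _ hQu, mul_zero, add_zero]
      exact CharTwo.add_self_eq_zero _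
  · obtain ⟨u, hu, huu⟩ := exists_isotropic_vector h2 (polarBilin Q) (polarBilin_isSymm Q) hQ hdim
    refine ⟨u, hu, ?_⟩
    have h4 : polar Q u u = 0 := huu
    rw [polar_self] at h4
    simpa [h2] using h4

end Basic

/-- Extending a hyperbolic system by one more pair. -/
theorem HypSys.cons {F : Type u} [Field F] {V : Type v} [AddCommGroup V] [Module F V]
    {Q : QuadraticForm F V} {k : ℕ} {e f : Fin k → V} (h : HypSys Q e f) {u w : V}
    (hQu : Q u = 0) (hQw : Q w = 0) (huw : polar Q u w = 1)
    (hu : ∀ i, polar Q u (e i) = 0 ∧ polar Q u (f i) = 0)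
    (hw : ∀ i, polar Q w (e i) = 0 ∧ polar Q w (f i) = 0) :
    HypSys Q (Fin.cons u e : Fin (k + 1) → V) (Fin.cons w f : Fin (k + 1) → V) := by
  refine ⟨?_, ?_, ?_, ?_, ?_⟩
  · intro i
    refine Fin.cases ?_ (fun i => ?_) i
    · simpa using hQu
    · simpa using h.Qe i
  · intro i
    refine Fin.cases ?_ (fun i => ?_) i
    · simpa using hQw
    · simpa using h.Qf i
  · intro i j
    refine Fin.cases ?_ (fun i => ?_) i <;> refine Fin.cases ?_ (fun j => ?_) j
    · simpa using huw
    · simp only [Fin.cons_zero, Fin.cons_succ]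
      rw [(hu j).2, if_neg (Fin.succ_ne_zero j).symm]
    · simp only [Fin.cons_zero, Fin.cons_succ]
      rw [polar_comm, (hw i).1, if_neg (Fin.succ_ne_zero i)]
    · simp only [Fin.cons_succ, Fin.succ_inj]
      exact h.ef i j
  · intro i j
    refine Fin.cases ?_ (fun i => ?_) i <;> refine Fin.cases ?_ (fun j => ?_) j
    · simp only [Fin.cons_zero]
      rw [polar_self, hQu]; simp
    · simp only [Fin.cons_zero, Fin.cons_succ]
      exact (hu j).1
    · simp only [Fin.cons_zero, Fin.cons_succ]
      rw [polar_comm]; exact (hu i).1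
    · simp only [Fin.cons_succ]
      exact h.ee i j
  · intro i j
    refine Fin.cases ?_ (fun i => ?_) i <;> refine Fin.cases ?_ (fun j => ?_) j
    · simp only [Fin.cons_zero]
      rw [polar_self, hQw]; simp
    · simp only [Fin.cons_zero, Fin.cons_succ]
      exact (hw j).2
    · simp only [Fin.cons_zero, Fin.cons_succ]
      rw [polar_comm]; exact (hw i).2
    · simp only [Fin.cons_succ]
      exact h.ff i j

/-- Witt decomposition: `k` hyperbolic pairs and a nondegenerate core of dimension `r`. -/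
theorem witt_core {F : Type u} [Field F] [Finite F] (r : ℕ) (hr : 1 ≤ r) (k : ℕ) :
    ∀ {V : Type v} [AddCommGroup V] [Module F V] [FiniteDimensional F V] (Q : QuadraticForm F V)
      (_ : (polarBilin Q).Nondegenerate) (_ : finrank F V = 2 * k + r),
      ∃ (e f : Fin k → V) (A : Submodule F V), HypSys Q e f ∧
        (∀ i, ∀ a ∈ A, polar Q (e i) a = 0 ∧ polar Q (f i) a = 0) ∧ finrank F A = r ∧
        (∀ a ∈ A, (∀ b ∈ A, polar Q a b = 0) → a = 0) := by
  induction k with
  | zero =>
    intro V _ _ _ Q hQ hdim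
    refine ⟨Fin.elim0, Fin.elim0, ⊤, ⟨fun i => i.elim0, fun i => i.elim0, fun i => i.elim0,
      fun i => i.elim0, fun i => i.elim0⟩, fun i => i.elim0, by simpa using hdim,
      fun a _ h => hQ.1 a (fun b => h b trivial)⟩
  | succ k ih =>
    intro V _ _ _ Q hQ hdim
    obtain ⟨u, hu, hQu⟩ := exists_singular Q hQ (by omega)
    obtain ⟨w, hQw, huw⟩ := exists_partner Q hQ u hu hQu
    have huu : polarBilin Q u u = 0 := by
      show polar Q u u = 0
      rw [polar_self, hQu]; simp
    have hww : polarBilin Q w w = 0 := by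
      show polar Q w w = 0
      rw [polar_self, hQw]; simp
    obtain ⟨hnd, hfr, -⟩ := hyperbolic_split (polarBilin Q) (polarBilin_isSymm Q) hQ u w huu hww huw
    obtain ⟨W, hWdef⟩ : ∃ W : Submodule F V, W = LinearMap.BilinForm.orthogonal (polarBilin Q)
      (Submodule.span F (Set.range ![u, w])) := ⟨_, rfl⟩
    rw [← hWdef] at hnd hfr
    obtain ⟨e', f', A', hsys, horth, hA, hAnd⟩ := ih (resQ Q W)
      (by rw [polarBilin_resQ]; exact hnd) (by omega)
    have hW : ∀ x : W, polar Q u x = 0 ∧ polar Q w x = 0 := fun x =>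
      (mem_orthogonal_pair (polarBilin Q) u w x).mp (hWdef ▸ x.2)
    have hsys' : HypSys Q (fun i => (e' i : V)) (fun i => (f' i : V)) :=
      ⟨hsys.Qe, hsys.Qf, hsys.ef, hsys.ee, hsys.ff⟩
    refine ⟨Fin.cons u (fun i => (e' i : V)), Fin.cons w (fun i => (f' i : V)),
      A'.map W.subtype, hsys'.cons hQu hQw huw (fun i => ⟨(hW _).1, (hW _).1⟩)
        (fun i => ⟨(hW _).2, (hW _).2⟩), ?_, ?_, ?_⟩
    · intro i a ha
      obtain ⟨a', ha', rfl⟩ := ha
      refine Fin.cases ?_ (fun i => ?_) i
      · simpa using hW a'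
      · simp only [Fin.cons_succ]
        exact horth i a' ha'
    · rw [Submodule.finrank_map_subtype_eq, hA]
    · rintro a ⟨a', ha', rfl⟩ h
      have : a' = 0 := hAnd a' ha' (fun b hb => h b ⟨b, hb, rfl⟩)
      rw [this]; simp

section Assembly

variable {F : Type u} [Field F] {V : Type v} [AddCommGroup V] [Module F V]

theorem HypSys.linearIndependent_sum {Q : QuadraticForm F V} {I κ : Type*} [Fintype I]
    [DecidableEq I] [Fintype κ] {e f : I → V} (h : HypSys Q e f) (a : κ → V)
    (ha : LinearIndependent F a)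
    (horth : ∀ i k, polar Q (e i) (a k) = 0 ∧ polar Q (f i) (a k) = 0) :
    LinearIndependent F (Sum.elim (Sum.elim e f) a) := by
  rw [Fintype.linearIndependent_iff]
  intro g hg
  simp only [Fintype.sum_sum_type, Sum.elim_inl, Sum.elim_inr] at hg
  have key : ∀ z : V, ∑ i, g (Sum.inl (Sum.inl i)) * polar Q z (e i)
      + ∑ i, g (Sum.inl (Sum.inr i)) * polar Q z (f i) + ∑ k, g (Sum.inr k) * polar Q z (a k)
      = 0 := by
    intro z
    have := congrArg (polarBilin Q z) hg
    simpa only [map_add, map_sum, map_smul, smul_eq_mul, polarBilin_apply_apply, map_zero]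
      using this
  have h1 : ∀ j, g (Sum.inl (Sum.inl j)) = 0 := by
    intro j
    have := key (f j)
    simp only [h.ff, (horth _ _).2, mul_zero, Finset.sum_const_zero, add_zero] at this
    simpa [polar_comm _ (f j), h.ef] using this
  have h2 : ∀ j, g (Sum.inl (Sum.inr j)) = 0 := by
    intro j
    have := key (e j)
    simp only [h.ee, (horth _ _).1, mul_zero, Finset.sum_const_zero, add_zero, zero_add] at this
    simpa [h.ef] using this
  have h3 : ∀ k, g (Sum.inr k) = 0 := by
    simp only [h1, h2, zero_smul, Finset.sum_const_zero, zero_add] at hg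
    exact Fintype.linearIndependent_iff.mp ha _ hg
  rintro ((i | i) | k)
  · exact h1 i
  · exact h2 i
  · exact h3 k

theorem HypSys.linearIndependent {Q : QuadraticForm F V} {I : Type*} [Fintype I]
    [DecidableEq I] {e f : I → V} (h : HypSys Q e f) :
    LinearIndependent F (Sum.elim e f) := by
  have := h.linearIndependent_sum (Fin.elim0 : Fin 0 → V) linearIndependent_empty_type
    (fun _ k => k.elim0)
  have h2 := this.comp Sum.inl Sum.inl_injective
  rwa [Sum.elim_comp_inl] at h2

theorem exists_basis_of_li [FiniteDimensional F V] {ι : Type*} [Fintype ι] (b : ι → V)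
    (hli : LinearIndependent F b) (hcard : Fintype.card ι = finrank F V) :
    ∃ B : Basis ι F V, ⇑B = b :=
  ⟨Basis.mk hli (by rw [hli.span_eq_top_of_card_eq_finrank' hcard]), Basis.coe_mk _ _⟩

theorem core_one [FiniteDimensional F V] (Q : QuadraticForm F V) (A : Submodule F V) (hA : finrank F A = 1)
    (hnd : ∀ a ∈ A, (∀ b ∈ A, polar Q a b = 0) → a = 0) : ∃ x ∈ A, Q x ≠ 0 := by
  obtain ⟨x, hx⟩ : ∃ x : A, x ≠ 0 := by
    apply (Module.finrank_pos_iff_exists_ne_zero (R := F)).mp
    omega
  refine ⟨x, x.2, fun hQ => hx ?_⟩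
  have hall := (finrank_eq_one_iff_of_nonzero' x hx).mp hA
  apply Subtype.ext
  apply hnd x x.2
  intro b hb
  obtain ⟨c, hc⟩ := hall ⟨b, hb⟩
  have : b = c • (x : V) := by
    have := congrArg Subtype.val hc
    simpa using this.symm
  rw [this, polar_smul_right, polar_self, hQ]
  simp

theorem core_two [Finite F] [FiniteDimensional F V] (Q : QuadraticForm F V) (A : Submodule F V)
    (hA : finrank F A = 2) (hnd : ∀ a ∈ A, (∀ b ∈ A, polar Q a b = 0) → a = 0) :
    (∃ u ∈ A, ∃ w ∈ A, Q u = 0 ∧ Q w = 0 ∧ polar Q u w = 1) ∨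
    (∃ x ∈ A, ∃ y ∈ A, Q x = 1 ∧ polar Q x y = 1 ∧ ∀ t : F, t ^ 2 + t + Q y ≠ 0) := by
  have : Fintype F := Fintype.ofFinite F
  have hQA : (polarBilin (resQ Q A)).Nondegenerate := by
    apply nondeg_of_sep
    intro x hx
    apply Subtype.ext
    exact hnd x x.2 (fun b hb => hx ⟨b, hb⟩)
  by_cases hs : ∃ u : A, u ≠ 0 ∧ resQ Q A u = 0
  · obtain ⟨u, hu, hQu⟩ := hs
    obtain ⟨w, hQw, huw⟩ := exists_partner (resQ Q A) hQA u hu hQu
    exact Or.inl ⟨u, u.2, w, w.2, hQu, hQw, huw⟩
  · right
    push Not at hs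
    obtain ⟨x, hx⟩ : ∃ x : A, resQ Q A x = 1 := by
      by_cases h2 : (2 : F) = 0
      · have hchar : CharP F 2 := CharTwo.of_one_ne_zero_of_two_eq_zero one_ne_zero h2
        obtain ⟨x₀, hx₀⟩ : ∃ x : A, x ≠ 0 := by
          apply (Module.finrank_pos_iff_exists_ne_zero (R := F)).mp
          omega
        obtain ⟨s, hs'⟩ := FiniteField.isSquare_of_char_two (ringChar.eq F 2) (resQ Q A x₀)⁻¹
        refine ⟨s • x₀, ?_⟩
        rw [QuadraticMap.map_smul, ← hs', smul_eq_mul, inv_mul_cancel₀ (hs x₀ hx₀)]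
      · obtain ⟨x, hx⟩ := exists_apply_self_eq h2 (polarBilin (resQ Q A)) (polarBilin_isSymm _)
          hQA (by omega) 2
        refine ⟨x, ?_⟩
        have h4 : polar (resQ Q A) x x = 2 := hx
        rw [polar_self] at h4
        simp only [nsmul_eq_mul, Nat.cast_ofNat] at h4
        exact mul_left_cancel₀ h2 (by rw [h4, mul_one])
    have hx0 : x ≠ 0 := by
      rintro rfl
      simp at hx
    obtain ⟨y₀, hy₀⟩ : ∃ y, polar (resQ Q A) x y = 1 := by
      obtain ⟨y, hy⟩ : ∃ y, polar (resQ Q A) x y ≠ 0 := by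
        by_contra hcon
        push Not at hcon
        exact hx0 (hQA.1 x hcon)
      exact ⟨(polar (resQ Q A) x y)⁻¹ • y, by
        rw [polar_smul_right, smul_eq_mul, inv_mul_cancel₀ hy]⟩
    obtain ⟨y, hy, hyx⟩ : ∃ y, polar (resQ Q A) x y = 1 ∧ y ∉ Submodule.span F {x} := by
      by_cases hmem : y₀ ∈ Submodule.span F {x}
      · obtain ⟨w, -, hw⟩ := exists_not_mem_span_singleton x (⊤ : Submodule F A)
          (by rw [finrank_top]; omega)
        refine ⟨w + (1 - polar (resQ Q A) x w) • y₀, ?_, ?_⟩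
        · rw [polar_add_right, polar_smul_right, hy₀]
          simp
        · intro h
          apply hw
          have := Submodule.sub_mem _ h (Submodule.smul_mem _ (1 - polar (resQ Q A) x w) hmem)
          simpa using this
      · exact ⟨y₀, hy₀, hmem⟩
    refine ⟨x, x.2, y, y.2, hx, hy, fun t ht => ?_⟩
    have h5 : resQ Q A (y + t • x) = 0 := by
      rw [Q_add_smul, hx, polar_comm, hy]
      have h6 : resQ Q A y = Q y := rfl
      rw [h6]
      linear_combination ht
    have h7 : y + t • x = 0 := by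
      by_contra hne
      exact hs _ hne h5
    apply hyx
    rw [Submodule.mem_span_singleton]
    exact ⟨-t, by rw [neg_smul]; exact (eq_neg_of_add_eq_zero_left h7).symm⟩

/-- The pair `x, y` of an elliptic basis is linearly independent. -/
theorem elliptic_pair_li (Q : QuadraticForm F V) (x y : V) (hx : Q x = 1) (hxy : polar Q x y = 1)
    (hirr : ∀ t : F, t ^ 2 + t + Q y ≠ 0) : LinearIndependent F ![x, y] := by
  rw [LinearIndependent.pair_iff]
  intro s t hst
  have h0 : Q (s • x + t • y) = 0 := by rw [hst]; simp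
  rw [Q_add_smul, QuadraticMap.map_smul, polar_smul_left, hx, hxy] at h0
  simp only [smul_eq_mul, mul_one] at h0
  have ht : t = 0 := by
    by_contra ht
    apply hirr (s / t)
    field_simp
    linear_combination h0
  subst ht
  refine ⟨?_, rfl⟩
  simpa using h0

end Assembly

end Cfsg.Agent.Lib.Helper14
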